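import Cfsg.Agent.Char.CosetSquare
import Cfsg.Agent.Char.DegreeRatio
import Cfsg.Agent.Blocks.Congr
import Cfsg.Agent.BlocksB.ClassSum

/-!
# Knörr's weighted column sums for groups with an abelian normal Sylow subgroup
-/

set_option autoImplicit false
set_option linter.style.haveILetI false

namespace CfsgLib.KGV

open CfsgLib.Char
open scoped ComplexConjugate

universe u

variable {X : Type u} [Group X]

/-- Characters do not vanish on an abelian normal Sylow subgroup. -/
theorem apply_ne_zero [Finite X] {p : ℕ} [Fact p.Prime] {V : Subgroup X} [V.Normal]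
    (hVp : IsPGroup p V) (hidx : ¬ p ∣ V.index) (hab : ∀ a ∈ V, ∀ b ∈ V, a * b = b * a)
    {χ : X → ℂ} (hχ : Cfsg.IsIrrCharacter X χ) {v : X} (hv : v ∈ V) : χ v ≠ 0 := by
  classical
  haveI := Fintype.ofFinite X
  haveI : Fintype V := Fintype.ofFinite V
  obtain ⟨θ, hθ, hc⟩ := exists_constituent_restrict (N := V) hχ
  obtain ⟨k, hk, hk1⟩ := exists_degree_ratio hχ hθ hc
  have hθ1 : θ 1 = 1 :=
    IsIrrCharacter.apply_one_eq_one hθ fun a b => Subtype.ext (hab a a.2 b b.2)
  rw [hθ1, mul_one] at hk1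
  obtain ⟨M, hM⟩ := CfsgLib.Block.exists_isPModular (Fact.out : p.Prime)
  haveI := hM.2.1.isPrime
  obtain ⟨n, hn⟩ := hVp ⟨v, hv⟩
  have hn' : v ^ p ^ n = 1 := by simpa using congrArg Subtype.val hn
  have h := CfsgLib.Block.char_cong_pPart hM (IsIrrCharacter.isCharacter hχ) (Commute.one_right v)
    hn' (Fact.out : p.Prime).not_dvd_one (one_pow 1)
  intro h0
  rw [mul_one, h0, zero_sub, hk1] at h
  have := (CfsgLib.Block.memLocalIdeal_natCast_iff hM).1 (by simpa using CfsgLib.Block.memLocalIdeal_neg h)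
  exact hidx (this.trans hk)

/-- The central scalar of an irreducible character. -/
theorem exists_central_scalar [Fintype X] {φ : X → ℂ} (hφ : Cfsg.IsIrrCharacter X φ) {x : X}
    (hx : x ∈ Subgroup.center X) :
    ∃ c : ℂ, IsIntegral ℤ c ∧ ∀ y, φ (y * x) = c * φ y := by
  classical
  have hcent : ∀ g : X, g * x = x * g := Subgroup.mem_center_iff.1 hx
  let δ : X → ℂ := fun g => if g = x then 1 else 0
  have hδ : Cfsg.IsClassFunction X δ := fun g h => by
    refine if_congr ⟨fun e => ?_, fun e => ?_⟩ rfl rfl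
    · have : g = h⁻¹ * x * h := by rw [← e]; group
      rw [this, mul_assoc, ← hcent, inv_mul_cancel_left]
    · rw [e, hcent, mul_inv_cancel_right]
  obtain ⟨c, hc1, hc⟩ := BlocksB.exists_scalar hφ hδ
  have hc' : ∀ y, φ (x * y) = c * φ y := fun y => by
    rw [← hc y, Finset.sum_eq_single x] <;> simp +contextual [δ]
  refine ⟨c, ?_, fun y => by rw [hcent, hc']⟩
  have hi := BlocksB.isIntegral_centralChar hφ x
  have h1 : Subgroup.centralizer ({x} : Set X) = ⊤ :=
    eq_top_iff.2 fun g _ => Subgroup.mem_centralizer_singleton_iff.2 (hcent g)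
  rw [Cfsg.centralChar, h1, Subgroup.index_top, Nat.cast_one, one_mul] at hi
  have h2 := hc' 1
  rw [mul_one] at h2
  rwa [h2, mul_div_cancel_right₀ _ (IsIrrCharacter.apply_one_ne_zero hφ)] at hi

/-- A weighted norm of the values on a coset by a central element is an algebraic integer. -/
theorem isIntegral_weighted_norm [Fintype X] {χ : X → ℂ} (hχ : Cfsg.IsCharacter X χ) {x : X}
    (hx : x ∈ Subgroup.center X) (D : Subgroup X) [Fintype D] {η : D → ℂ}
    (hη : Cfsg.IsGeneralizedCharacter D η) :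
    IsIntegral ℤ ((Nat.card D : ℂ)⁻¹ * ∑ d : D, η d * (χ (d * x) * conj (χ (d * x)))) := by
  classical
  choose! c hcint hc using fun φ (hφ : φ ∈ irrFinset X) =>
    exists_central_scalar (mem_irrFinset.1 hφ) hx
  choose! n hn using fun φ (hφ : φ ∈ irrFinset X) =>
    IsCharacter.exists_classInner_eq_natCast hχ (mem_irrFinset.1 hφ)
  have hval : ∀ d : D, χ (d * x) = ∑ φ ∈ irrFinset X, (n φ : ℂ) * c φ * φ d := fun d => by
    conv_lhs => rw [eq_sum_irr (IsCharacter.isClassFunction hχ)]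
    rw [Finset.sum_apply]
    exact Finset.sum_congr rfl fun φ hφ => by
      rw [Pi.smul_apply, smul_eq_mul, hn φ hφ, hc φ hφ, mul_assoc]
  have key : (Nat.card D : ℂ)⁻¹ * ∑ d : D, η d * (χ (d * x) * conj (χ (d * x))) =
      ∑ φ ∈ irrFinset X, ∑ ψ ∈ irrFinset X, ((n φ : ℂ) * c φ * ((n ψ : ℂ) * conj (c ψ))) *
        Cfsg.classInner (η * fun d : D => φ d) (fun d : D => ψ d) := by
    simp only [hval, map_sum, map_mul, Complex.conj_natCast, classInner_def, Pi.mul_apply,
      Finset.mul_sum, Finset.sum_mul]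
    rw [Finset.sum_comm]
    refine (Finset.sum_congr rfl fun φ _ => Finset.sum_comm).trans ?_
    rw [Finset.sum_comm]
    exact Finset.sum_congr rfl fun φ _ => Finset.sum_congr rfl fun ψ _ =>
      Finset.sum_congr rfl fun d _ => by ring
  rw [key]
  refine IsIntegral.sum _ fun φ hφ => IsIntegral.sum _ fun ψ hψ => ?_
  obtain ⟨k, hk⟩ := IsGeneralized.exists_classInner_eq_int
    (IsGeneralized.mul hη (IsCharacter.isGeneralized
      (IsCharacter.restrict (IsIrrCharacter.isCharacter (mem_irrFinset.1 hφ)) D)))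
    (IsCharacter.isGeneralized
      (IsCharacter.restrict (IsIrrCharacter.isCharacter (mem_irrFinset.1 hψ)) D))
  have hnat : ∀ m : ℕ, IsIntegral ℤ (m : ℂ) := fun m =>
    map_natCast (algebraMap ℤ ℂ) m ▸ isIntegral_algebraMap
  refine IsIntegral.mul (((hnat _).mul (hcint φ hφ)).mul ((hnat _).mul ?_)) ?_
  · exact (hcint ψ hψ).map (starRingEnd ℂ).toIntAlgHom
  · rw [hk]; exact map_intCast (algebraMap ℤ ℂ) k ▸ isIntegral_algebraMap

/-- A set of irreducible characters closed under all automorphisms gives fixed products. -/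
theorem prod_fixed [Finite X] (s : Finset (X → ℂ)) (hirr : ∀ χ ∈ s, Cfsg.IsIrrCharacter X χ)
    (hs : ∀ (σ : ℂ ≃+* ℂ), ∀ χ ∈ s, (fun g => σ (χ g)) ∈ s) (F : (X → ℂ) → ℂ)
    (hF : ∀ (σ : ℂ ≃+* ℂ), ∀ χ ∈ s, σ (F χ) = F (fun g => σ (χ g))) (σ : ℂ ≃+* ℂ) :
    σ (∏ χ ∈ s, F χ) = ∏ χ ∈ s, F χ := by
  classical
  have hinj : Function.Injective fun (χ : X → ℂ) (g : X) => σ (χ g) := fun a b h =>
    funext fun g => σ.injective (congrFun h g)
  have himg : s.image (fun χ g => σ (χ g)) = s :=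
    Finset.eq_of_subset_of_card_le (Finset.image_subset_iff.2 (hs σ))
      (Finset.card_image_of_injective s hinj).ge
  rw [map_prod, Finset.prod_congr rfl (hF σ)]
  conv_rhs => rw [← himg]
  rw [Finset.prod_image fun a _ b _ h => hinj h]

/-- The second orthogonality relation at an element. -/
theorem sum_norm_sq_column [Finite X] (g : X) :
    ∑ χ ∈ irrFinset X, ‖χ g‖ ^ 2 = (Nat.card (Subgroup.centralizer ({g} : Set X)) : ℝ) := by
  classical
  have h := sum_irr_mul_conj g g
  rw [if_pos (IsConj.refl g)] at h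
  simp only [Complex.mul_conj', ← Complex.ofReal_pow, ← Complex.ofReal_sum,
    ← Complex.ofReal_natCast, Complex.ofReal_inj] at h
  exact h

/-- Knörr's bound: a weight which is a generalized character bounds the class number. -/
theorem card_conjClasses_le_of_weight [Finite X] (v : X) (hv : ∀ χ, Cfsg.IsIrrCharacter X χ → χ v ≠ 0)
    (D : Subgroup X) [Fintype D] (hD : ∀ d ∈ D, d * v = v * d) (e : D → ℕ) (he : e 1 ≠ 0)
    (hgen : Cfsg.IsGeneralizedCharacter D (fun d => (e d : ℂ))) (B : ℕ)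
    (hB : ∑ d : D, e d * Nat.card (Subgroup.centralizer ({(d : X) * v} : Set X)) ≤ Nat.card D * B) :
    Nat.card (ConjClasses X) ≤ B := by
  classical
  haveI := Fintype.ofFinite X
  obtain ⟨H, hH⟩ : ∃ H, H = Subgroup.centralizer ({v} : Set X) := ⟨_, rfl⟩
  have hDH : D ≤ H := fun d hd => hH ▸ Subgroup.mem_centralizer_singleton_iff.2 (hD d hd)
  have hvH : v ∈ H := hH ▸ Subgroup.mem_centralizer_singleton_iff.2 rfl
  have hvc : (⟨v, hvH⟩ : H) ∈ Subgroup.center H := Subgroup.mem_center_iff.2 fun g => by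
    have hg := g.2
    simp only [hH] at hg
    exact Subtype.ext (Subgroup.mem_centralizer_singleton_iff.1 hg)
  obtain ⟨t, ht⟩ : ∃ t : (X → ℂ) → ℂ, t = fun χ => (Nat.card D : ℂ)⁻¹ *
      ∑ d : D, (e d : ℂ) * (χ ((d : X) * v) * conj (χ ((d : X) * v))) := ⟨_, rfl⟩
  have hint : ∀ χ ∈ irrFinset X, IsIntegral ℤ (t χ) := by
    intro χ hχ
    haveI : Fintype H := Fintype.ofFinite H
    haveI : Fintype (D.subgroupOf H) := Fintype.ofFinite _
    have h := isIntegral_weighted_norm
      (IsCharacter.restrict (IsIrrCharacter.isCharacter (mem_irrFinset.1 hχ)) H) hvc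
      (D.subgroupOf H)
      (IsGeneralized.comp hgen (Subgroup.subgroupOfEquivOfLe hDH).toMonoidHom)
    rw [ht]
    convert h using 1
    rw [Nat.card_congr (Subgroup.subgroupOfEquivOfLe hDH).toEquiv]
    simp only
    congr 1
    refine (Fintype.sum_equiv (Subgroup.subgroupOfEquivOfLe hDH).toEquiv _ _ fun d => ?_).symm
    rfl
  have hreal : ∀ χ, t χ = (((Nat.card D : ℝ)⁻¹ * ∑ d : D,
      (e d : ℝ) * ‖χ ((d : X) * v)‖ ^ 2 : ℝ) : ℂ) := fun χ => by
    simp [ht, Complex.mul_conj']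
  have hnn : ∀ χ : X → ℂ, 0 ≤ (Nat.card D : ℝ)⁻¹ * ∑ d : D,
      (e d : ℝ) * ‖χ ((d : X) * v)‖ ^ 2 := fun χ => by positivity
  have hne : ∀ χ ∈ irrFinset X, t χ ≠ 0 := by
    intro χ hχ h0
    rw [hreal, Complex.ofReal_eq_zero, mul_eq_zero, Finset.sum_eq_zero_iff_of_nonneg
      fun d _ => by positivity] at h0
    have h1 := h0.resolve_left (inv_ne_zero (by exact_mod_cast Nat.card_pos.ne')) 1 (Finset.mem_univ _)
    rw [OneMemClass.coe_one, one_mul] at h1
    rcases mul_eq_zero.1 h1 with h | h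
    · exact he (by exact_mod_cast h)
    · exact hv χ (mem_irrFinset.1 hχ) (norm_eq_zero.1 (eq_zero_of_pow_eq_zero h))
  have hstable : ∀ (σ : ℂ ≃+* ℂ), ∀ χ ∈ irrFinset X, (fun g => σ (χ g)) ∈ irrFinset X :=
    fun σ χ hχ => mem_irrFinset.2 (IsIrrCharacter.map_ringEquiv (mem_irrFinset.1 hχ) σ)
  have hfix := prod_fixed (irrFinset X) (fun χ hχ => mem_irrFinset.1 hχ) hstable t fun σ χ hχ => by
    have hc := IsIrrCharacter.isCharacter (mem_irrFinset.1 hχ)
    have hc' := IsIrrCharacter.isCharacter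
      (IsIrrCharacter.map_ringEquiv (mem_irrFinset.1 hχ) σ)
    simp only [ht, ← IsCharacter.apply_inv hc, ← IsCharacter.apply_inv hc', map_mul, map_inv₀,
      map_natCast, map_sum]
  have h1 := card_le_sum_norm_pow (irrFinset X) t 1 hint hne hfix
  simp only [pow_one] at h1
  have h2 : ∑ χ ∈ irrFinset X, ‖t χ‖ = (Nat.card D : ℝ)⁻¹ * ∑ d : D,
      (e d : ℝ) * (Nat.card (Subgroup.centralizer ({(d : X) * v} : Set X)) : ℝ) := by
    rw [Finset.sum_congr rfl fun χ _ => by rw [hreal, Complex.norm_of_nonneg (hnn χ)],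
      ← Finset.mul_sum, Finset.sum_comm]
    congr 1
    exact Finset.sum_congr rfl fun d _ => by rw [← Finset.mul_sum, sum_norm_sq_column]
  rw [← card_irr_eq_card_conjClasses, card_irr]
  have h3 : (Nat.card D : ℝ)⁻¹ * ∑ d : D,
      (e d : ℝ) * (Nat.card (Subgroup.centralizer ({(d : X) * v} : Set X)) : ℝ) ≤ (B : ℝ) := by
    rw [inv_mul_le_iff₀ (by exact_mod_cast Nat.card_pos)]
    exact_mod_cast hB
  exact_mod_cast (h1.trans (h2.le.trans h3))

/-- The stabiliser of a point of the abelian kernel decomposes. -/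
theorem card_centralizer_eq [Finite X] {V G : Subgroup X} (hGV : Subgroup.IsComplement' V G)
    {v : X} (hV : ∀ a ∈ V, a * v = v * a) :
    Nat.card (Subgroup.centralizer ({v} : Set X)) =
      Nat.card V * Nat.card (G ⊓ Subgroup.centralizer ({v} : Set X) : Subgroup X) := by
  rw [← Nat.card_prod]
  refine (Nat.card_congr (Equiv.ofBijective (fun x =>
    (⟨(x.1 : X) * (x.2 : X), Subgroup.mul_mem _ (Subgroup.mem_centralizer_singleton_iff.2 (hV _ x.1.2))
      x.2.2.2⟩ : Subgroup.centralizer ({v} : Set X))) ⟨fun a b h => ?_, fun y => ?_⟩)).symm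
  · have := hGV.injective (a₁ := (⟨(a.1 : X), a.1.2⟩, ⟨(a.2 : X), a.2.2.1⟩))
      (a₂ := (⟨(b.1 : X), b.1.2⟩, ⟨(b.2 : X), b.2.2.1⟩)) (congrArg Subtype.val h)
    simp only [Prod.mk.injEq, Subtype.mk.injEq] at this
    exact Prod.ext (Subtype.ext this.1) (Subtype.ext this.2)
  · obtain ⟨⟨a, g⟩, hag⟩ := hGV.surjective (y : X)
    have hag' : (a : X) * (g : X) = y := hag
    have hg : (g : X) ∈ Subgroup.centralizer ({v} : Set X) := by
      rw [show (g : X) = (a : X)⁻¹ * y by rw [← hag']; group]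
      exact Subgroup.mul_mem _
        (Subgroup.inv_mem _ (Subgroup.mem_centralizer_singleton_iff.2 (hV _ a.2))) y.2
    exact ⟨(a, ⟨g, g.2, hg⟩), Subtype.ext hag'⟩

/-- Knörr's column bound. -/
theorem card_conjClasses_add_le [Finite X] {p : ℕ} [Fact p.Prime] {V G : Subgroup X} [V.Normal]
    (hVp : IsPGroup p V) (hidx : ¬ p ∣ V.index) (hab : ∀ a ∈ V, ∀ b ∈ V, a * b = b * a)
    (hGV : Subgroup.IsComplement' V G) {v : X} (hv : v ∈ V) :
    Nat.card (ConjClasses X) + Nat.card G ≤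
      Nat.card (G ⊓ Subgroup.centralizer ({v} : Set X) : Subgroup X) * Nat.card V +
        Nat.card (ConjClasses G) := by
  classical
  haveI := Fintype.ofFinite X
  let e : G ≃* X ⧸ V := MulEquiv.ofBijective ((QuotientGroup.mk' V).comp G.subtype) ⟨fun a b h => by
      have h' : ((a : X) : X ⧸ V) = ((b : X) : X ⧸ V) := h
      rw [QuotientGroup.eq] at h'
      have hmem : (a : X)⁻¹ * (b : X) ∈ V ⊓ G := ⟨h', G.mul_mem (G.inv_mem a.2) b.2⟩
      rw [hGV.disjoint.eq_bot, Subgroup.mem_bot, inv_mul_eq_one] at hmem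
      exact Subtype.ext hmem,
    fun q => by
      obtain ⟨y, rfl⟩ := QuotientGroup.mk_surjective q
      obtain ⟨⟨a, g⟩, hag⟩ := hGV.surjective y
      refine ⟨g, ?_⟩
      have hag' : (a : X) * (g : X) = y := hag
      subst hag'
      change ((g : X) : X ⧸ V) = _
      rw [QuotientGroup.mk_mul, (QuotientGroup.eq_one_iff (a : X)).2 a.2, one_mul]⟩
  let Q : Finset (X → ℂ) := (irrFinset (X ⧸ V)).image fun σ => fun g : X => σ (g : X ⧸ V)
  have hQinj : Function.Injective fun (σ : X ⧸ V → ℂ) => fun g : X => σ (g : X ⧸ V) := fun a b h =>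
    funext fun q => QuotientGroup.induction_on q fun g => congrFun h g
  have hQsub : Q ⊆ irrFinset X := fun χ hχ => by
    obtain ⟨σ, hσ, rfl⟩ := Finset.mem_image.1 hχ
    exact mem_irrFinset.2 (IsIrrCharacter.comp_surjective (mem_irrFinset.1 hσ)
      (QuotientGroup.mk' V) (QuotientGroup.mk'_surjective V))
  have hQcard : Q.card = Nat.card (ConjClasses G) := by
    rw [Finset.card_image_of_injective _ hQinj, ← card_irr, card_irr_eq_card_conjClasses]
    exact Nat.card_congr
      { toFun := ConjClasses.map e.symm.toMonoidHom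
        invFun := ConjClasses.map e.toMonoidHom
        left_inv := fun c => Quotient.inductionOn c fun a =>
          congrArg ConjClasses.mk (e.apply_symm_apply a)
        right_inv := fun c => Quotient.inductionOn c fun a =>
          congrArg ConjClasses.mk (e.symm_apply_apply a) }
  have hQsum : ∑ χ ∈ Q, ‖χ v‖ ^ 2 = (Nat.card G : ℝ) := by
    rw [Finset.sum_image fun a _ b _ h => hQinj h]
    simp only [(QuotientGroup.eq_one_iff v).2 hv]
    rw [sum_norm_sq_column (1 : X ⧸ V),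
      show Subgroup.centralizer ({1} : Set (X ⧸ V)) = ⊤ from
        eq_top_iff.2 fun g _ => Subgroup.mem_centralizer_singleton_iff.2 (by simp), Subgroup.card_top,
      Nat.card_congr e.toEquiv]
  have hstable : ∀ (σ : ℂ ≃+* ℂ), ∀ χ ∈ irrFinset X \ Q,
      (fun g => σ (χ g)) ∈ irrFinset X \ Q := by
    intro σ χ hχ
    rw [Finset.mem_sdiff] at hχ ⊢
    refine ⟨mem_irrFinset.2 (IsIrrCharacter.map_ringEquiv (mem_irrFinset.1 hχ.1) σ),
      fun h => hχ.2 ?_⟩
    obtain ⟨τ, hτ, heq⟩ := Finset.mem_image.1 h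
    refine Finset.mem_image.2 ⟨fun q => σ.symm (τ q), mem_irrFinset.2
      (IsIrrCharacter.map_ringEquiv (mem_irrFinset.1 hτ) σ.symm), funext fun g => ?_⟩
    change σ.symm (τ (g : X ⧸ V)) = χ g
    rw [show τ (g : X ⧸ V) = σ (χ g) from congrFun heq g, RingEquiv.symm_apply_apply]
  have h1 := card_le_sum_norm_pow (irrFinset X \ Q) (fun χ => χ v) 2
    (fun χ hχ => IsCharacter.isIntegral
      (IsIrrCharacter.isCharacter (mem_irrFinset.1 (Finset.mem_sdiff.1 hχ).1)) v)
    (fun χ hχ => apply_ne_zero hVp hidx hab (mem_irrFinset.1 (Finset.mem_sdiff.1 hχ).1) hv)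
    (prod_fixed _ (fun χ hχ => mem_irrFinset.1 (Finset.mem_sdiff.1 hχ).1) hstable _
      fun σ χ _ => rfl)
  have h2 := sum_norm_sq_column v
  rw [← Finset.sum_sdiff hQsub, hQsum, card_centralizer_eq hGV fun a ha => hab a ha v hv] at h2
  have h3 : (Nat.card (ConjClasses X) : ℝ) = ((irrFinset X \ Q).card : ℝ) +
      (Nat.card (ConjClasses G) : ℝ) := by
    rw [← card_irr_eq_card_conjClasses, card_irr, ← hQcard, ← Nat.cast_add, Nat.cast_inj,
      Finset.card_sdiff_add_card_eq_card hQsub]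
  push_cast at h2
  have : ((Nat.card (ConjClasses X) + Nat.card G : ℕ) : ℝ) ≤
      ((Nat.card (G ⊓ Subgroup.centralizer ({v} : Set X) : Subgroup X) * Nat.card V +
        Nat.card (ConjClasses G) : ℕ) : ℝ) := by
    push_cast
    linarith
  exact_mod_cast this

end CfsgLib.KGV
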