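import Cfsg.Agent.Char.CosetSquare
import Mathlib.RingTheory.RootsOfUnity.Complex
import Mathlib.Algebra.BigOperators.Fin

/-!
# The tensor product of the forms `∑_{a<b} (x_a - x_b)²` on vectors of algebraic integers
-/

set_option autoImplicit false
set_option linter.style.haveILetI false

namespace CfsgLib.KGV

open scoped ComplexConjugate

universe u

/-- A primitive `n`-th root of unity. -/
noncomputable def zeta (n : ℕ) : ℂ := Complex.exp (2 * Real.pi * Complex.I / n)

theorem isPrimitiveRoot_zeta {n : ℕ} (hn : 0 < n) : IsPrimitiveRoot (zeta n) n :=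
  Complex.isPrimitiveRoot_exp n hn.ne'

/-- The weight of a point. -/
def weight {r : ℕ} (n : Fin r → ℕ) (z : ∀ i, Fin (n i)) : ℕ :=
  ∏ i, if (z i : ℕ) = 0 then 1 else n i + 1

/-- The finite Fourier transform. -/
noncomputable def transform {r : ℕ} (n : Fin r → ℕ) (x : (∀ i, Fin (n i)) → ℂ)
    (z : ∀ i, Fin (n i)) : ℂ :=
  ∑ j, x j * ∏ i, zeta (n i) ^ ((z i : ℕ) * (j i : ℕ))

theorem sum_root_mul_conj {n : ℕ} (hn : 0 < n) (a b : Fin n) :
    ∑ z : Fin n, zeta n ^ ((z : ℕ) * (a : ℕ)) * conj (zeta n ^ ((z : ℕ) * (b : ℕ))) =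
      if a = b then (n : ℂ) else 0 := by
  have hζ := isPrimitiveRoot_zeta hn
  have hconj : conj (zeta n) = (zeta n)⁻¹ := by
    rw [Complex.inv_eq_conj (Complex.norm_eq_one_of_pow_eq_one hζ.pow_eq_one hn.ne')]
  have hterm : ∀ z : Fin n, zeta n ^ ((z : ℕ) * (a : ℕ)) * conj (zeta n ^ ((z : ℕ) * (b : ℕ))) =
      (zeta n ^ (a : ℕ) * (zeta n ^ (b : ℕ))⁻¹) ^ (z : ℕ) := fun z => by
    rw [map_pow, hconj, inv_pow, mul_pow, inv_pow, ← pow_mul, ← pow_mul, mul_comm (a : ℕ),
      mul_comm (b : ℕ)]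
  rw [Finset.sum_congr rfl fun z _ => hterm z]
  obtain ⟨q, hq⟩ : ∃ q, q = zeta n ^ (a : ℕ) * (zeta n ^ (b : ℕ))⁻¹ := ⟨_, rfl⟩
  rw [← hq, Fin.sum_univ_eq_sum_range (fun i => q ^ i)]
  have hne : zeta n ≠ 0 := hζ.ne_zero hn.ne'
  split_ifs with hab
  · rw [hq, hab, mul_inv_cancel₀ (pow_ne_zero _ hne)]
    simp
  · have hq1 : q ≠ 1 := fun h1 => hab (Fin.ext (hζ.pow_inj a.2 b.2 (by
      rw [hq, mul_inv_eq_one₀ (pow_ne_zero _ hne)] at h1; exact h1)))
    have hqn : q ^ n = 1 := by
      rw [hq, mul_pow, inv_pow, ← pow_mul, ← pow_mul, mul_comm (a : ℕ), mul_comm (b : ℕ), pow_mul,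
        pow_mul, hζ.pow_eq_one, one_pow, one_pow, inv_one, mul_one]
    rw [geom_sum_eq hq1, hqn, sub_self, zero_div]

theorem sum_root_eq {n : ℕ} (hn : 0 < n) (G : Fin n → ℂ) :
    ∑ z : Fin n, ‖∑ j : Fin n, G j * zeta n ^ ((z : ℕ) * (j : ℕ))‖ ^ 2 =
      (n : ℝ) * ∑ j, ‖G j‖ ^ 2 := by
  refine Complex.ofReal_injective ?_
  push_cast
  simp only [← Complex.mul_conj', map_sum, map_mul, Finset.sum_mul, Finset.mul_sum]
  rw [Finset.sum_comm]
  refine Finset.sum_congr rfl fun a _ => ?_
  rw [Finset.sum_comm]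
  have : ∀ b : Fin n, ∑ z : Fin n, G b * zeta n ^ ((z : ℕ) * (b : ℕ)) *
      (conj (G a) * conj (zeta n ^ ((z : ℕ) * (a : ℕ)))) =
      G b * conj (G a) * if b = a then (n : ℂ) else 0 := fun b => by
    rw [← sum_root_mul_conj hn b a, Finset.mul_sum]
    exact Finset.sum_congr rfl fun z _ => by ring
  rw [Finset.sum_congr rfl fun b _ => this b]
  simp [mul_comm]

/-- The value at a point of `Option`, zero at `none`. -/
def extendOption {α : Type*} {β : Type*} [Zero β] (g : α → β) (a : Option α) : β := a.elim 0 g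

/-- The sum over all pairs of the square differences. -/
theorem sum_sub_sq {ι : Type*} [Fintype ι] (e : ι → ℂ) :
    ∑ a, ∑ b, (e a - e b) * conj (e a - e b) =
      2 * (Fintype.card ι : ℂ) * (∑ a, e a * conj (e a)) - 2 * ((∑ a, e a) * conj (∑ a, e a)) := by
  have h1 : ∑ a, ∑ b, (e a - e b) * conj (e a - e b) =
      ∑ a : ι, ∑ _b : ι, e a * conj (e a) + ∑ _a : ι, ∑ b : ι, e b * conj (e b)
        - ∑ a : ι, ∑ b : ι, e a * conj (e b) - ∑ a : ι, ∑ b : ι, e b * conj (e a) := by
    simp only [← Finset.sum_add_distrib, ← Finset.sum_sub_distrib]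
    exact Finset.sum_congr rfl fun a _ => Finset.sum_congr rfl fun b _ => by rw [map_sub]; ring
  rw [h1, map_sum, Finset.sum_mul_sum, Finset.sum_comm (f := fun a b => e b * conj (e b)),
    Finset.sum_comm (f := fun a b => e b * conj (e a))]
  simp only [Finset.sum_const, Finset.card_univ, nsmul_eq_mul, ← Finset.mul_sum]
  ring

/-- The one-factor identity. -/
theorem weighted_sum_root_eq {n : ℕ} (hn : 0 < n) (G : Fin n → ℂ) :
    ∑ z : Fin n, ((if (z : ℕ) = 0 then 1 else n + 1 : ℕ) : ℝ) *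
        ‖∑ j : Fin n, G j * zeta n ^ ((z : ℕ) * (j : ℕ))‖ ^ 2 =
      (n : ℝ) / 2 * ∑ a : Option (Fin n), ∑ b : Option (Fin n),
        ‖extendOption G a - extendOption G b‖ ^ 2 := by
  haveI : NeZero n := ⟨hn.ne'⟩
  have h1 : ∑ z : Fin n, ((if (z : ℕ) = 0 then 1 else n + 1 : ℕ) : ℝ) *
        ‖∑ j : Fin n, G j * zeta n ^ ((z : ℕ) * (j : ℕ))‖ ^ 2 =
      ((n : ℝ) + 1) * ((n : ℝ) * ∑ j, ‖G j‖ ^ 2) - (n : ℝ) * ‖∑ j, G j‖ ^ 2 := by
    rw [← sum_root_eq hn, Finset.mul_sum]
    have : (n : ℝ) * ‖∑ j, G j‖ ^ 2 = ∑ z : Fin n, if z = 0 then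
        (n : ℝ) * ‖∑ j : Fin n, G j * zeta n ^ ((z : ℕ) * (j : ℕ))‖ ^ 2 else 0 := by
      rw [Finset.sum_ite_eq' Finset.univ (0 : Fin n)]
      simp
    rw [this, ← Finset.sum_sub_distrib]
    refine Finset.sum_congr rfl fun z _ => ?_
    by_cases hz : z = 0
    · subst hz; simp only [Fin.val_zero, if_true, Nat.cast_one, one_mul]; ring
    · have : (z : ℕ) ≠ 0 := fun h => hz (Fin.ext h)
      rw [if_neg this, if_neg hz]; push_cast; ring
  rw [h1]
  refine Complex.ofReal_injective ?_
  push_cast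
  simp only [← Complex.mul_conj']
  rw [sum_sub_sq]
  simp only [extendOption, Fintype.sum_option, Option.elim_none, Option.elim_some, map_zero,
    zero_add, mul_zero, Fintype.card_option, Fintype.card_fin, Nat.cast_add, Nat.cast_one]
  ring

theorem two_mul_le_card_ne_pairs {α β : Type*} [Fintype α] [DecidableEq β] [Zero β] (g : α → β)
    (hg : ∃ a, g a ≠ 0) :
    2 * Fintype.card α ≤ (Finset.univ.filter fun ab : Option α × Option α =>
      extendOption g ab.1 ≠ extendOption g ab.2).card := by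
  classical
  obtain ⟨S, hS⟩ : ∃ S : Finset (Option α), S = Finset.univ.filter fun a =>
      extendOption g a ≠ (0 : β) := ⟨_, rfl⟩
  have hC : 1 ≤ Sᶜ.card := Finset.card_pos.2
    ⟨none, by rw [hS, Finset.mem_compl, Finset.mem_filter]; simp [extendOption]⟩
  have hS1 : 1 ≤ S.card := by
    obtain ⟨a, ha⟩ := hg
    exact Finset.card_pos.2 ⟨some a, by rw [hS, Finset.mem_filter]; exact ⟨Finset.mem_univ _, ha⟩⟩
  have htot : S.card + Sᶜ.card = Fintype.card α + 1 := by
    rw [Finset.card_add_card_compl, Fintype.card_option]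
  have hsub : S ×ˢ Sᶜ ∪ Sᶜ ×ˢ S ⊆ Finset.univ.filter fun ab : Option α × Option α =>
      extendOption g ab.1 ≠ extendOption g ab.2 := by
    intro ab hab
    simp only [Finset.mem_union, Finset.mem_product, hS, Finset.mem_compl, Finset.mem_filter,
      Finset.mem_univ, true_and, not_not] at hab ⊢
    rcases hab with ⟨h1, h2⟩ | ⟨h1, h2⟩
    · rw [h2]; exact h1
    · rw [h1]; exact Ne.symm h2
  refine le_trans ?_ (Finset.card_le_card hsub)
  rw [Finset.card_union_of_disjoint, Finset.card_product, Finset.card_product]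
  · nlinarith [Nat.mul_le_mul hS1 hC]
  · rw [Finset.disjoint_left]
    intro ab h1 h2
    simp only [Finset.mem_product, Finset.mem_compl] at h1 h2
    exact h2.1 h1.1

/-- Vectors of algebraic integers, closed under field automorphisms, have weighted transforms of
mean square norm at least `(∏ nᵢ)²`. -/
theorem card_mul_sq_le (r : ℕ) : ∀ (n : Fin r → ℕ), (∀ i, 0 < n i) → ∀ {κ : Type u} [Fintype κ]
    (x : κ → (∀ i, Fin (n i)) → ℂ), (∀ k j, IsIntegral ℤ (x k j)) → (∀ k, x k ≠ 0) →
    (∀ σ : ℂ ≃+* ℂ, ∃ (π : κ → κ) (τ : ∀ i, Fin (n i) → Fin (n i)), Function.Injective π ∧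
      (∀ i, Function.Injective (τ i)) ∧ ∀ k j, σ (x k j) = x (π k) fun i => τ i (j i)) →
    (Fintype.card κ : ℝ) * ((∏ i, n i : ℕ) : ℝ) ^ 2 ≤
      ∑ k, ∑ z, (weight n z : ℝ) * ‖transform n (x k) z‖ ^ 2 := by
  classical
  induction r with
  | zero =>
    intro n _ κ _ x hint hne hgal
    obtain ⟨j0, hj0⟩ : ∃ j0 : ∀ i : Fin 0, Fin (n i), j0 = fun i => i.elim0 := ⟨_, rfl⟩
    have hne' : ∀ k, x k j0 ≠ 0 := fun k h => hne k (funext fun j => by
      rw [Subsingleton.elim j j0]; exact h)
    have h := CfsgLib.Char.card_le_sum_norm_pow (Finset.univ : Finset κ) (fun k => x k j0) 2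
      (fun k _ => hint k j0) (fun k _ => hne' k) fun σ => by
        obtain ⟨π, τ, hπ, -, hσ⟩ := hgal σ
        rw [map_prod]
        refine Fintype.prod_bijective π ⟨hπ, (Finite.injective_iff_surjective.1 hπ)⟩ _ _ fun k => ?_
        rw [hσ, Subsingleton.elim (fun i => τ i (j0 i)) j0]
    refine le_trans (le_of_eq (by simp)) (h.trans (le_of_eq (Finset.sum_congr rfl fun k _ => ?_)))
    simp [Subsingleton.elim (default : ∀ i : Fin 0, Fin (n i)) j0, weight, transform,
      Fintype.sum_unique]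
  | succ r ih =>
    intro n hn κ _ x hint hne hgal
    obtain ⟨n', hn'⟩ : ∃ n' : Fin r → ℕ, n' = fun i => n i.succ := ⟨_, rfl⟩
    subst hn'
    -- slices
    let X : κ → Fin (n 0) → ((∀ i : Fin r, Fin (n i.succ)) → ℂ) := fun k a j =>
      x k (Fin.cons a j)
    let D : κ × Option (Fin (n 0)) × Option (Fin (n 0)) → ((∀ i : Fin r, Fin (n i.succ)) → ℂ) :=
      fun t => extendOption (X t.1) t.2.1 - extendOption (X t.1) t.2.2
    have hext0 : ∀ (k : κ) (a : Option (Fin (n 0))) (j : ∀ i : Fin r, Fin (n i.succ)),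
        extendOption (X k) a j = extendOption (fun b => x k (Fin.cons b j)) a := fun k a j => by
      cases a <;> rfl
    -- the Galois action
    have hgal' : ∀ σ : ℂ ≃+* ℂ, ∃ (π : κ → κ) (τ₀ : Fin (n 0) → Fin (n 0))
        (τ : ∀ i : Fin r, Fin (n i.succ) → Fin (n i.succ)), Function.Injective π ∧
        Function.Injective τ₀ ∧ (∀ i, Function.Injective (τ i)) ∧
        ∀ k a j, σ (X k a j) = X (π k) (τ₀ a) fun i => τ i (j i) := by
      intro σ
      obtain ⟨π, τ, hπ, hτ, hσ⟩ := hgal σ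
      refine ⟨π, τ 0, fun i => τ i.succ, hπ, hτ 0, fun i => hτ _, fun k a j => ?_⟩
      simp only [X]
      rw [hσ]
      congr 1
      funext i
      refine Fin.cases ?_ (fun i => ?_) i <;> simp
    have hDint : ∀ t j, IsIntegral ℤ (D t j) := by
      intro t j
      simp only [D, Pi.sub_apply, hext0]
      refine IsIntegral.sub ?_ ?_
      · cases t.2.1
        · exact isIntegral_zero
        · exact hint _ _
      · cases t.2.2
        · exact isIntegral_zero
        · exact hint _ _
    -- the new index set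
    let κ' := {t : κ × Option (Fin (n 0)) × Option (Fin (n 0)) // D t ≠ 0}
    have hD : ∀ σ : ℂ ≃+* ℂ, ∃ (π : κ' → κ') (τ : ∀ i : Fin r, Fin (n i.succ) → Fin (n i.succ)),
        Function.Injective π ∧ (∀ i, Function.Injective (τ i)) ∧
        ∀ t j, σ (D t.1 j) = D (π t).1 fun i => τ i (j i) := by
      intro σ
      obtain ⟨π, τ₀, τ, hπ, hτ₀, hτ, hσ⟩ := hgal' σ
      let F : κ × Option (Fin (n 0)) × Option (Fin (n 0)) →
          κ × Option (Fin (n 0)) × Option (Fin (n 0)) :=
        fun t => (π t.1, t.2.1.map τ₀, t.2.2.map τ₀)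
      have hF : ∀ t j, σ (D t j) = D (F t) fun i => τ i (j i) := by
        rintro ⟨k, a, b⟩ j
        simp only [D, F, Pi.sub_apply, map_sub]
        congr 1
        · cases a
          · simp [extendOption]
          · exact hσ _ _ _
        · cases b
          · simp [extendOption]
          · exact hσ _ _ _
      refine ⟨fun t => ⟨F t.1, fun h => t.2 (funext fun j => σ.injective ?_)⟩, τ, fun s t h => ?_,
        hτ, fun t j => hF t.1 j⟩
      · rw [hF, h]; simp
      · have h1 : F s.1 = F t.1 := congrArg Subtype.val h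
        simp only [F, Prod.mk.injEq] at h1
        exact Subtype.ext (Prod.ext (hπ h1.1)
          (Prod.ext (Option.map_injective hτ₀ h1.2.1) (Option.map_injective hτ₀ h1.2.2)))
    have hih := ih (fun i => n i.succ) (fun i => hn _) (fun t : κ' => D t.1)
      (fun t j => hDint t.1 j) (fun t => t.2) hD
    -- the number of pairs
    have hcount : 2 * n 0 * Fintype.card κ ≤ Fintype.card κ' := by
      rw [Fintype.card_subtype]
      have : (Finset.univ.filter fun t : κ × Option (Fin (n 0)) × Option (Fin (n 0)) => D t ≠ 0).card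
          = ∑ k : κ, (Finset.univ.filter fun ab : Option (Fin (n 0)) × Option (Fin (n 0)) =>
              extendOption (X k) ab.1 ≠ extendOption (X k) ab.2).card := by
        simp only [Finset.card_filter, D, Ne, sub_eq_zero, Fintype.sum_prod_type]
      rw [this, mul_comm, ← smul_eq_mul, ← Finset.card_univ, ← Finset.sum_const]
      refine Finset.sum_le_sum fun k _ => ?_
      refine le_trans (le_of_eq (by rw [Fintype.card_fin])) (two_mul_le_card_ne_pairs (X k) ?_)
      by_contra! h
      refine hne k (funext fun j => ?_)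
      have := congrFun (h (j 0)) fun i => j i.succ
      simp only [X] at this
      rwa [show (Fin.cons (j 0) fun i : Fin r => j i.succ) = j from Fin.cons_self_tail j] at this
    -- the identity
    have hid : ∀ k, ∑ z, (weight n z : ℝ) * ‖transform n (x k) z‖ ^ 2 =
        (n 0 : ℝ) / 2 * ∑ a, ∑ b, ∑ z, (weight (fun i : Fin r => n i.succ) z : ℝ) *
          ‖transform (fun i : Fin r => n i.succ) (D (k, a, b)) z‖ ^ 2 := by
      intro k
      rw [← (Fin.consEquiv fun i => Fin (n i)).sum_comp, Fintype.sum_prod_type, Finset.sum_comm]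
      conv_rhs => arg 2; rw [Finset.sum_congr rfl fun a _ => Finset.sum_comm, Finset.sum_comm]
      rw [Finset.mul_sum]
      refine Finset.sum_congr rfl fun z _ => ?_
      obtain ⟨G, hG⟩ : ∃ G : Fin (n 0) → ℂ, G = fun a =>
          transform (fun i : Fin r => n i.succ) (X k a) z := ⟨_, rfl⟩
      have hF : ∀ z0 : Fin (n 0), transform n (x k) (Fin.cons z0 z) =
          ∑ a, G a * zeta (n 0) ^ ((z0 : ℕ) * (a : ℕ)) := fun z0 => by
        rw [transform, ← (Fin.consEquiv fun i => Fin (n i)).sum_comp, Fintype.sum_prod_type]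
        refine Finset.sum_congr rfl fun a _ => ?_
        have hce' : ∀ j, (Fin.consEquiv fun i => Fin (n i)) (a, j) = Fin.cons a j := fun j => rfl
        rw [hG]
        simp only [transform, Finset.sum_mul, X, hce', Fin.prod_univ_succ,
          Fin.cons_zero, Fin.cons_succ]
        exact Finset.sum_congr rfl fun j _ => by ring
      have hw : ∀ z0 : Fin (n 0), weight n (Fin.cons z0 z) =
          (if (z0 : ℕ) = 0 then 1 else n 0 + 1) * weight (fun i : Fin r => n i.succ) z := fun z0 => by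
        simp [weight, Fin.prod_univ_succ]
      have hDG : ∀ a b, transform (fun i : Fin r => n i.succ) (D (k, a, b)) z =
          extendOption G a - extendOption G b := fun a b => by
        have hext : ∀ c : Option (Fin (n 0)),
            transform (fun i : Fin r => n i.succ) (extendOption (X k) c) z = extendOption G c :=
          fun c => by
            cases c
            · simp [extendOption, transform]
            · rw [hG]; rfl
        rw [← hext, ← hext]
        simp only [transform, D, Pi.sub_apply, sub_mul, Finset.sum_sub_distrib]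
      have hce : ∀ z0 : Fin (n 0), (Fin.consEquiv fun i => Fin (n i)) (z0, z) = Fin.cons z0 z :=
        fun z0 => rfl
      simp only [hce, hF, hw, hDG]
      push_cast
      simp only [mul_right_comm _ (weight (fun i : Fin r => n i.succ) z : ℝ), ← Finset.sum_mul,
        ← Finset.mul_sum]
      have := weighted_sum_root_eq (hn 0) G
      push_cast at this
      rw [this]
      ring
    rw [Finset.sum_congr rfl fun k _ => hid k, ← Finset.mul_sum]
    have hge : ∑ t : κ', ∑ z, (weight (fun i : Fin r => n i.succ) z : ℝ) *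
        ‖transform (fun i : Fin r => n i.succ) (D t.1) z‖ ^ 2 ≤
        ∑ k, ∑ a, ∑ b, ∑ z, (weight (fun i : Fin r => n i.succ) z : ℝ) *
          ‖transform (fun i : Fin r => n i.succ) (D (k, a, b)) z‖ ^ 2 := by
      obtain ⟨Φ, hΦ⟩ : ∃ Φ : κ × Option (Fin (n 0)) × Option (Fin (n 0)) → ℝ, Φ = fun t =>
          ∑ z, (weight (fun i : Fin r => n i.succ) z : ℝ) *
            ‖transform (fun i : Fin r => n i.succ) (D t) z‖ ^ 2 := ⟨_, rfl⟩
      have h1 : ∑ t : κ', Φ t.1 = ∑ t ∈ Finset.univ.filter (fun t => D t ≠ 0), Φ t :=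
        (Finset.sum_subtype (p := fun t => D t ≠ 0) _ (fun t => by simp) Φ).symm
      have h2 : ∑ t, Φ t = ∑ k, ∑ a, ∑ b, Φ (k, a, b) := by
        simp only [Fintype.sum_prod_type]
      subst hΦ
      rw [h1, ← h2]
      exact Finset.sum_le_sum_of_subset_of_nonneg (Finset.subset_univ _)
        fun t _ _ => Finset.sum_nonneg fun z _ => by positivity
    rw [Fin.prod_univ_succ]
    push_cast at hih ⊢
    calc (Fintype.card κ : ℝ) * ((n 0 : ℝ) * ∏ i : Fin r, (n i.succ : ℝ)) ^ 2
        = (n 0 : ℝ) / 2 * (((2 * n 0 * Fintype.card κ : ℕ) : ℝ) *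
            (∏ i : Fin r, (n i.succ : ℝ)) ^ 2) := by push_cast; ring
      _ ≤ (n 0 : ℝ) / 2 * ((Fintype.card κ' : ℝ) * (∏ i : Fin r, (n i.succ : ℝ)) ^ 2) := by
          refine mul_le_mul_of_nonneg_left (mul_le_mul_of_nonneg_right ?_ (sq_nonneg _))
            (by positivity)
          exact_mod_cast hcount
      _ ≤ _ := mul_le_mul_of_nonneg_left (hih.trans hge) (by positivity)

end CfsgLib.KGV
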