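import Cfsg.Agent.KGV.Basic
import Cfsg.Agent.KGV.AbelianForm
import Cfsg.Agent.Frobenius.Fpf

/-!
# The abelian stabiliser criterion for the `k(GV)` problem
-/

set_option autoImplicit false
set_option linter.style.haveILetI false

namespace CfsgLib.KGV

open CfsgLib.Char
open scoped ComplexConjugate

universe u v

/-- Linear characters of an abelian group of automorphisms which control fixed points. -/
theorem exists_chain {D : Type v} [CommGroup D] [Finite D] :
    ∀ (m : ℕ) (V : Type u) [CommGroup V] [Finite V], Nat.card V = m → ∀ φ : D →* MulAut V,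
      ∃ (r : ℕ) (n : Fin r → ℕ) (ψ : Fin r → D →* ℂˣ), (∀ i, 0 < n i) ∧
        (∀ i d, ψ i d ^ n i = 1) ∧
        (∀ d, (∏ i, if ψ i d = 1 then 1 else n i + 1) * Nat.card {x : V // φ d x = x} ≤ m) ∧
        (∀ d, (∀ i, ψ i d = 1) → (orderOf d).Coprime m → φ d = 1) := by
  intro m
  induction m using Nat.strong_induction_on with
  | _ m ih =>
  intro V _ _ hm φ
  classical
  rcases subsingleton_or_nontrivial V with hsub | hnt
  · refine ⟨0, fun i => i.elim0, fun i => i.elim0, fun i => i.elim0, fun i => i.elim0, fun d => ?_,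
      fun d _ _ => MulEquiv.ext fun x => Subsingleton.elim _ _⟩
    rw [Fin.prod_univ_zero, one_mul, ← hm]
    exact Finite.card_subtype_le _
  -- a minimal invariant subgroup
  have hex : ∃ k, ∃ W : Subgroup V, W ≠ ⊥ ∧ (∀ d, ∀ w ∈ W, φ d w ∈ W) ∧ Nat.card W = k :=
    ⟨_, ⊤, top_ne_bot, fun _ _ _ => Subgroup.mem_top _, rfl⟩
  obtain ⟨W, hW, hWinv, hWcard⟩ := Nat.find_spec hex
  have hWmin : ∀ U : Subgroup V, U ≠ ⊥ → (∀ d, ∀ w ∈ U, φ d w ∈ U) → U ≤ W → U = W :=
    fun U hU hUinv hle => Subgroup.eq_of_le_of_card_ge hle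
      (hWcard ▸ Nat.find_min' hex ⟨U, hU, hUinv, rfl⟩)
  have hWinv' : ∀ d, W.map (φ d).toMonoidHom = W := fun d =>
    Subgroup.eq_of_le_of_card_ge (Subgroup.map_le_iff_le_comap.2 fun w hw => hWinv d w hw)
      (Subgroup.card_map_of_injective (φ d).injective).ge
  haveI hWnt : Nontrivial W := (Subgroup.nontrivial_iff_ne_bot W).2 hW
  let φW : D →* MulAut W :=
    { toFun := fun d =>
        { toFun := fun w => ⟨φ d w, hWinv d w w.2⟩
          invFun := fun w => ⟨φ d⁻¹ w, hWinv d⁻¹ w w.2⟩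
          left_inv := fun w => Subtype.ext (by simp)
          right_inv := fun w => Subtype.ext (by simp)
          map_mul' := fun a b => Subtype.ext (by simp) }
      map_one' := MulEquiv.ext fun w => Subtype.ext (by simp)
      map_mul' := fun a b => MulEquiv.ext fun w => Subtype.ext (by simp) }
  have hφW : ∀ d (w : W), (φW d w : V) = φ d w := fun d w => rfl
  have hfix : ∀ d, (∃ w : W, w ≠ 1 ∧ φW d w = w) → φW d = 1 := by
    rintro d ⟨w, hw1, hw⟩
    let U : Subgroup V :=
      { carrier := {x | x ∈ W ∧ φ d x = x}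
        one_mem' := ⟨W.one_mem, map_one _⟩
        mul_mem' := fun {a b} ha hb => ⟨W.mul_mem ha.1 hb.1, by rw [map_mul, ha.2, hb.2]⟩
        inv_mem' := fun {a} ha => ⟨W.inv_mem ha.1, by rw [map_inv, ha.2]⟩ }
    have hU : U = W := hWmin U
      (fun h => hw1 (Subtype.ext ((Subgroup.eq_bot_iff_forall U).1 h w
        ⟨w.2, congrArg Subtype.val hw⟩)))
      (fun e x hx => ⟨hWinv e x hx.1, by
        change φ d (φ e x) = φ e x
        rw [← MulAut.mul_apply, ← map_mul, mul_comm, map_mul, MulAut.mul_apply, hx.2]⟩)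
      (fun x hx => hx.1)
    refine MulEquiv.ext fun y => Subtype.ext ?_
    have : (y : V) ∈ U := hU.symm ▸ y.2
    exact this.2
  -- the cyclic image
  let E := D ⧸ φW.ker
  let φE : E →* MulAut W := QuotientGroup.kerLift φW
  have hfpf : CfsgLib.Frobenius.IsFpf φE := by
    intro e he w hw
    obtain ⟨d, rfl⟩ := QuotientGroup.mk_surjective e
    by_contra hw1
    refine he ((QuotientGroup.eq_one_iff d).2 (hfix d ⟨w, hw1, ?_⟩))
    exact hw
  haveI hcyc : IsCyclic E := hfpf.isCyclic_of_comm fun a b => mul_comm a b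
  have hdvd : Nat.card E ∣ Nat.card W - 1 :=
    (Nat.modEq_iff_dvd' Nat.card_pos).1 hfpf.card_modEq_one.symm
  haveI : NeZero (Nat.card E) := ⟨Nat.card_pos.ne'⟩
  have hEcard : Nat.card E = Nat.card (rootsOfUnity (Nat.card E) ℂ) :=
    (HasEnoughRootsOfUnity.natCard_rootsOfUnity ℂ (Nat.card E)).symm
  let eE : E ≃* rootsOfUnity (Nat.card E) ℂ := mulEquivOfCyclicCardEq hEcard
  let ψ0 : D →* ℂˣ :=
    ((rootsOfUnity (Nat.card E) ℂ).subtype.comp eE.toMonoidHom).comp (QuotientGroup.mk' φW.ker)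
  have hψ0 : ∀ d, ψ0 d = 1 ↔ φW d = 1 := fun d => by
    simp only [ψ0, MonoidHom.comp_apply, Subgroup.subtype_apply, OneMemClass.coe_eq_one,
      MulEquiv.coe_toMonoidHom, EmbeddingLike.map_eq_one_iff, QuotientGroup.mk'_apply,
      QuotientGroup.eq_one_iff, MonoidHom.mem_ker]
    exact (QuotientGroup.eq_one_iff d).trans MonoidHom.mem_ker
  have hWlt : 1 < Nat.card W := Finite.one_lt_card_iff_nontrivial.2 hWnt
  -- the quotient
  let φQ : D →* MulAut (V ⧸ W) :=
    { toFun := fun d => QuotientGroup.congr W W (φ d) (hWinv' d)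
      map_one' := MulEquiv.ext fun q => QuotientGroup.induction_on q fun x => by simp
      map_mul' := fun a b => MulEquiv.ext fun q => QuotientGroup.induction_on q fun x => by
        simp only [map_mul, MulAut.mul_apply]; rfl }
  have hsplit : Nat.card (V ⧸ W) * Nat.card W = m :=
    hm ▸ W.card_eq_card_quotient_mul_card_subgroup.symm
  have hlt : Nat.card (V ⧸ W) < m := by
    rw [← hsplit]
    exact lt_mul_of_one_lt_right Nat.card_pos hWlt
  obtain ⟨r, n, ψ, hn, hψn, hbound, htriv⟩ := ih _ hlt (V ⧸ W) rfl φQ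
  refine ⟨r + 1, Fin.cons (Nat.card W - 1) n, Fin.cons ψ0 ψ,
    fun i => Fin.cases (by simp; omega) (fun j => by simpa using hn j) i, fun i => ?_, fun d => ?_,
    fun d hd hco => ?_⟩
  · refine Fin.cases ?_ (fun j => by simpa using hψn j) i
    intro d
    simp only [Fin.cons_zero]
    obtain ⟨c, hc⟩ := hdvd
    rw [hc, pow_mul]
    have : ψ0 d ^ Nat.card E = 1 := (mem_rootsOfUnity _ _).1 (eE (QuotientGroup.mk' φW.ker d)).2
    rw [this, one_pow]
  · let F := {x : V // φ d x = x}
    let π : F → {q : V ⧸ W // φQ d q = q} := fun x =>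
      ⟨(x.1 : V ⧸ W), by
        change ((φ d x.1 : V) : V ⧸ W) = (x.1 : V ⧸ W)
        rw [x.2]⟩
    have hfibre : Nat.card F ≤
        Nat.card {q : V ⧸ W // φQ d q = q} * Nat.card {w : W // φW d w = w} := by
      rw [← Nat.card_prod]
      have hex' : ∀ q, (∃ x, π x = q) → {x // π x = q} := fun q hq => ⟨hq.choose, hq.choose_spec⟩
      let rep : F → F := fun x => (hex' (π x) ⟨x, rfl⟩).1
      have hrep : ∀ x, ((rep x).1 : V ⧸ W) = (x.1 : V ⧸ W) := fun x =>
        congrArg Subtype.val (hex' (π x) ⟨x, rfl⟩).2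
      refine Nat.card_le_card_of_injective (fun x => (π x,
        ⟨⟨(rep x).1⁻¹ * x.1, (QuotientGroup.eq (s := W)).1 (hrep x)⟩, Subtype.ext (by
          rw [hφW]
          change φ d ((rep x).1⁻¹ * x.1) = (rep x).1⁻¹ * x.1
          rw [map_mul, map_inv, (rep x).2, x.2])⟩)) fun a b h => ?_
      simp only [Prod.mk.injEq, Subtype.mk.injEq] at h
      have hh : ∀ q q', q = q' → ∀ hq hq', (hex' q hq).1 = (hex' q' hq').1 := by
        rintro q _ rfl _ _; rfl
      have hab : rep a = rep b := hh _ _ h.1 _ _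
      exact Subtype.ext (mul_left_cancel (hab ▸ h.2))
    have hWfix : (if ψ0 d = 1 then 1 else Nat.card W - 1 + 1) * Nat.card {w : W // φW d w = w} ≤
        Nat.card W := by
      split_ifs with h
      · rw [one_mul]; exact Finite.card_subtype_le _
      · haveI : Subsingleton {w : W // φW d w = w} := by
          have h1 : ∀ w : {w : W // φW d w = w}, w.1 = 1 := fun w => by
            by_contra hw
            exact h ((hψ0 d).2 (hfix d ⟨w.1, hw, w.2⟩))
          exact ⟨fun a b => Subtype.ext ((h1 a).trans (h1 b).symm)⟩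
        rw [Nat.sub_add_cancel hWlt.le]
        exact (Nat.mul_le_mul_left _ (Finite.card_le_one_iff_subsingleton.2 this)).trans_eq
          (mul_one _)
    refine le_trans ?_ (le_of_eq hsplit)
    rw [Fin.prod_univ_succ]
    simp only [Fin.cons_zero, Fin.cons_succ]
    refine le_trans (Nat.mul_le_mul_left _ hfibre) (le_trans (le_of_eq ?_)
      (Nat.mul_le_mul (hbound d) hWfix))
    ring
  · have hW1 : φW d = 1 := (hψ0 d).1 (by simpa using hd 0)
    have hQ1 : φQ d = 1 := htriv d (fun i => by simpa using hd i.succ)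
      (hco.coprime_dvd_right ⟨_, hsplit.symm⟩)
    refine MulEquiv.ext fun x => ?_
    have hxW : x⁻¹ * φ d x ∈ W := by
      rw [← QuotientGroup.eq]
      exact (DFunLike.congr_fun hQ1 (x : V ⧸ W)).symm
    have hwfix : φ d (x⁻¹ * φ d x) = x⁻¹ * φ d x :=
      (hφW d ⟨_, hxW⟩).symm.trans (congrArg Subtype.val (DFunLike.congr_fun hW1 ⟨_, hxW⟩))
    have hiter : ∀ k : ℕ, φ (d ^ k) x = x * (x⁻¹ * φ d x) ^ k := by
      intro k
      induction k with
      | zero => simp
      | succ k ihk =>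
        rw [pow_succ', map_mul, MulAut.mul_apply, ihk, map_mul, map_pow, hwfix, pow_succ', ← mul_assoc,
          mul_inv_cancel_left]
    have h1 := hiter (orderOf d)
    rw [pow_orderOf_eq_one, map_one, MulAut.one_apply] at h1
    have h2 : orderOf (x⁻¹ * φ d x) ∣ orderOf d :=
      orderOf_dvd_of_pow_eq_one (mul_left_cancel ((mul_one x).trans h1)).symm
    have h3 : orderOf (x⁻¹ * φ d x) ∣ m := hm ▸ orderOf_dvd_natCard _
    have h4 := orderOf_eq_one_iff.1 (Nat.eq_one_of_dvd_coprimes hco h2 h3)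
    rw [inv_mul_eq_one] at h4
    exact h4.symm

/-- The abelian stabiliser criterion: the class number is at most the order of the kernel. -/
theorem card_conjClasses_le_of_comm_stabiliser {X : Type u} [Group X] [Finite X] {p : ℕ}
    [Fact p.Prime] {V G : Subgroup X} [V.Normal] (hVp : IsPGroup p V) (hidx : ¬ p ∣ V.index)
    (hVab : ∀ a ∈ V, ∀ b ∈ V, a * b = b * a) (hself : Subgroup.centralizer (V : Set X) = V)
    (hGV : Subgroup.IsComplement' V G) {v : X} (hv : v ∈ V) (D : Subgroup X)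
    (hD : D = G ⊓ Subgroup.centralizer ({v} : Set X))
    (hab : ∀ a ∈ D, ∀ b ∈ D, a * b = b * a) :
    Nat.card (ConjClasses X) ≤ Nat.card V := by
  classical
  haveI := Fintype.ofFinite X
  haveI : Fintype D := Fintype.ofFinite D
  letI : CommGroup D := { (inferInstance : Group D) with
    mul_comm := fun a b => Subtype.ext (hab a a.2 b b.2) }
  letI : CommGroup V := { (inferInstance : Group V) with
    mul_comm := fun a b => Subtype.ext (hVab a a.2 b b.2) }
  have hDv : ∀ d ∈ D, d * v = v * d := fun d hd =>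
    Subgroup.mem_centralizer_singleton_iff.1 (hD ▸ hd : d ∈ G ⊓ _).2
  have hp : p.Prime := Fact.out
  obtain ⟨a, ha⟩ := IsPGroup.iff_card.1 hVp
  have hDmem : ∀ y, y ∈ D → y ∈ G ∧ y * v = v * y := fun y hy => by
    rw [hD] at hy
    exact ⟨hy.1, Subgroup.mem_centralizer_singleton_iff.1 hy.2⟩
  have hDcop : ∀ d : D, (orderOf d).Coprime (Nat.card V) := fun d => by
    rw [ha]
    refine Nat.Coprime.pow_right a (Nat.coprime_comm.1 (hp.coprime_iff_not_dvd.2 fun h => hidx ?_))
    rw [hGV.symm.index_eq_card]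
    have hdG : (d : X) ∈ G := (hDmem d d.2).1
    refine h.trans ?_
    rw [← Subgroup.orderOf_coe d, ← Subgroup.orderOf_mk (d : X) hdG]
    exact orderOf_dvd_natCard _
  obtain ⟨φ, hφ⟩ : ∃ φ : D →* MulAut V, φ = MulAut.conjNormal.comp D.subtype := ⟨_, rfl⟩
  obtain ⟨r, n, ψ, hn, hψn, hbound, htriv⟩ := exists_chain (Nat.card V) V rfl φ
  -- exponents
  have hexp : ∀ i d, ∃ e : Fin (n i), (ψ i d : ℂ) = zeta (n i) ^ (e : ℕ) := fun i d => by
    have h1 : (ψ i d : ℂ) ^ n i = 1 := by
      rw [← Units.val_pow_eq_pow_val, hψn, Units.val_one]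
    haveI : NeZero (n i) := ⟨(hn i).ne'⟩
    obtain ⟨e, he, he'⟩ := (isPrimitiveRoot_zeta (hn i)).eq_pow_of_pow_eq_one h1
    exact ⟨⟨e, he⟩, he'.symm⟩
  choose e he using hexp
  obtain ⟨ι, hι⟩ : ∃ ι : D → ∀ i, Fin (n i), ι = fun d i => e i d := ⟨_, rfl⟩
  have hιinj : Function.Injective ι := by
    intro b c hbc
    rw [← mul_inv_eq_one]
    have hψ1 : ∀ i, ψ i (b * c⁻¹) = 1 := fun i => by
      rw [map_mul, map_inv, mul_inv_eq_one]
      refine Units.ext ?_
      rw [he, he]
      simp only [hι] at hbc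
      rw [congrFun hbc i]
    have h1 := htriv _ hψ1 (hDcop _)
    have hmem : ((b * c⁻¹ : D) : X) ∈ Subgroup.centralizer (V : Set X) := by
      refine Subgroup.mem_centralizer_iff.2 fun w hw => ?_
      have h2 := congrArg Subtype.val (DFunLike.congr_fun h1 ⟨w, hw⟩)
      simp only [hφ, MonoidHom.comp_apply, Subgroup.subtype_apply, MulAut.conjNormal_apply,
        MulAut.one_apply] at h2
      exact (mul_inv_eq_iff_eq_mul.1 h2).symm
    rw [hself] at hmem
    have hbc' : ((b * c⁻¹ : D) : X) ∈ G ⊓ Subgroup.centralizer ({v} : Set X) :=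
      Eq.mp (congrArg (fun K => ((b * c⁻¹ : D) : X) ∈ K) hD) (b * c⁻¹ : D).2
    have h3 : ((b * c⁻¹ : D) : X) ∈ V ⊓ G := ⟨hmem, hbc'.1⟩
    rw [hGV.disjoint.eq_bot, Subgroup.mem_bot] at h3
    exact Subtype.ext h3
  -- Fourier coefficients of the columns
  let κ := {χ : X → ℂ // χ ∈ irrFinset X}
  let x : κ → (∀ i, Fin (n i)) → ℂ := fun χ j => (Nat.card D : ℂ)⁻¹ *
    ∑ d : D, χ.1 ((d : X) * v) * ∏ i, (ψ i d⁻¹ : ℂ) ^ (j i : ℕ)
  obtain ⟨H, hH⟩ : ∃ H, H = Subgroup.centralizer ({v} : Set X) := ⟨_, rfl⟩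
  haveI : Fintype H := Fintype.ofFinite H
  have hDH : D ≤ H := fun d hd => hH ▸ Subgroup.mem_centralizer_singleton_iff.2 (hDv d hd)
  have hvH : v ∈ H := hH ▸ Subgroup.mem_centralizer_singleton_iff.2 rfl
  have hvc : (⟨v, hvH⟩ : H) ∈ Subgroup.center H := Subgroup.mem_center_iff.2 fun g => by
    have hg := g.2
    simp only [hH] at hg
    exact Subtype.ext (Subgroup.mem_centralizer_singleton_iff.1 hg)
  have hint : ∀ k j, IsIntegral ℤ (x k j) := by
    intro χ j
    let lam : D →* ℂˣ := ∏ i, (ψ i) ^ (j i : ℕ)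
    have hlam : ∀ d, (lam d⁻¹ : ℂ) = ∏ i, (ψ i d⁻¹ : ℂ) ^ (j i : ℕ) := fun d => by
      simp only [lam, MonoidHom.finset_prod_apply, Units.coe_prod, MonoidHom.pow_apply,
        Units.val_pow_eq_pow_val]
    have hres := IsCharacter.restrict (IsIrrCharacter.isCharacter (mem_irrFinset.1 χ.2)) H
    choose! c hcint hc using fun θ (hθ : θ ∈ irrFinset H) =>
      exists_central_scalar (mem_irrFinset.1 hθ) hvc
    have hval : ∀ d : D, χ.1 ((d : X) * v) = ∑ θ ∈ irrFinset H,
        Cfsg.classInner (fun h : H => χ.1 h) θ * c θ * θ (Subgroup.inclusion hDH d) := fun d => by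
      have := congrFun (eq_sum_irr (IsCharacter.isClassFunction hres))
        (Subgroup.inclusion hDH d * ⟨v, hvH⟩)
      rw [Finset.sum_apply] at this
      refine this.trans (Finset.sum_congr rfl fun θ hθ => ?_)
      rw [Pi.smul_apply, smul_eq_mul, hc θ hθ, mul_assoc]
    have key : x χ j = ∑ θ ∈ irrFinset H, Cfsg.classInner (fun h : H => χ.1 h) θ * c θ *
        Cfsg.classInner (fun d : D => θ (Subgroup.inclusion hDH d)) (fun d : D => (lam d : ℂ)) := by
      simp only [x, hval, classInner_def, conj_eq_inv_hom, ← map_inv, hlam, Finset.sum_mul,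
        Finset.mul_sum]
      rw [Finset.sum_comm]
      exact Finset.sum_congr rfl fun θ _ => by
        refine Finset.sum_congr rfl fun d _ => Finset.sum_congr rfl fun y _ => ?_
        ring
    rw [key]
    refine IsIntegral.sum _ fun θ hθ => ?_
    obtain ⟨b, hb⟩ := IsCharacter.exists_classInner_eq_natCast hres (mem_irrFinset.1 hθ)
    obtain ⟨b', hb'⟩ := IsCharacter.exists_classInner_eq_natCast
      (IsCharacter.comp (IsIrrCharacter.isCharacter (mem_irrFinset.1 hθ)) (Subgroup.inclusion hDH))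
      (isIrrCharacter_ofHom lam)
    rw [hb, hb']
    have hnat : ∀ m : ℕ, IsIntegral ℤ (m : ℂ) := fun m =>
      map_natCast (algebraMap ℤ ℂ) m ▸ isIntegral_algebraMap
    exact ((hnat _).mul (hcint θ hθ)).mul (hnat _)
  -- the transform recovers the column
  obtain ⟨N, hN⟩ : ∃ N, N = ∏ i, n i := ⟨_, rfl⟩
  have hN0 : 0 < N := hN ▸ Finset.prod_pos fun i _ => hn i
  have htr : ∀ (k : κ) z, transform n (x k) z = (Nat.card D : ℂ)⁻¹ *
      ∑ d : D, if ι d = z then (N : ℂ) * k.1 ((d : X) * v) else 0 := by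
    intro k z
    have hd : ∀ d : D, ∑ j : (∀ i, Fin (n i)), (∏ i, (ψ i d⁻¹ : ℂ) ^ (j i : ℕ)) *
        ∏ i, zeta (n i) ^ ((z i : ℕ) * (j i : ℕ)) = if ι d = z then (N : ℂ) else 0 := by
      intro d
      simp only [← Finset.prod_mul_distrib]
      have hps := Finset.prod_univ_sum (fun i => (Finset.univ : Finset (Fin (n i))))
        (fun i (a : Fin (n i)) => (ψ i d⁻¹ : ℂ) ^ (a : ℕ) * zeta (n i) ^ ((z i : ℕ) * (a : ℕ)))
      rw [Fintype.piFinset_univ] at hps
      rw [← hps]
      have hfac : ∀ i, ∑ a : Fin (n i), (ψ i d⁻¹ : ℂ) ^ (a : ℕ) * zeta (n i) ^ ((z i : ℕ) * (a : ℕ))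
          = if ι d i = z i then (n i : ℂ) else 0 := fun i => by
        rw [if_congr (eq_comm (a := ι d i)) rfl rfl, ← sum_root_mul_conj (hn i) (z i) (ι d i)]
        refine Finset.sum_congr rfl fun a _ => ?_
        rw [← conj_eq_inv_hom, he, hι, mul_comm]
        simp only [map_pow, ← pow_mul, mul_comm (a : ℕ)]
      rw [Finset.prod_congr rfl fun i _ => hfac i]
      split_ifs with h
      · rw [h, hN, Nat.cast_prod]
        simp
      · obtain ⟨i, hi⟩ := Function.ne_iff.1 h
        exact Finset.prod_eq_zero (Finset.mem_univ i) (if_neg hi)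
    simp only [transform, x, mul_assoc, Finset.sum_mul, ← Finset.mul_sum]
    congr 1
    rw [Finset.sum_comm]
    refine Finset.sum_congr rfl fun d _ => ?_
    simp only [mul_assoc, ← Finset.mul_sum, hd]
    split_ifs <;> ring
  have htr' : ∀ (k : κ) (d : D), transform n (x k) (ι d) =
      (Nat.card D : ℂ)⁻¹ * ((N : ℂ) * k.1 ((d : X) * v)) := fun k d => by
    rw [htr, Finset.sum_eq_single d (fun b _ hb => if_neg fun h => hb (hιinj h))
      (fun h => absurd (Finset.mem_univ _) h), if_pos rfl]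
  have hne : ∀ k, x k ≠ 0 := by
    intro k h0
    have h1 := htr' k 1
    rw [h0, OneMemClass.coe_one, one_mul] at h1
    simp only [transform, Pi.zero_apply, zero_mul, Finset.sum_const_zero] at h1
    rcases mul_eq_zero.1 h1.symm with h | h
    · simp at h
    · rcases mul_eq_zero.1 h with h | h
      · exact hN0.ne' (by exact_mod_cast h)
      · exact apply_ne_zero hVp hidx hVab (mem_irrFinset.1 k.2) hv h
  have hgal : ∀ σ : ℂ ≃+* ℂ, ∃ (π : κ → κ) (τ : ∀ i, Fin (n i) → Fin (n i)), Function.Injective π ∧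
      (∀ i, Function.Injective (τ i)) ∧ ∀ k j, σ (x k j) = x (π k) fun i => τ i (j i) := by
    intro σ
    obtain ⟨t, ht, hσ⟩ := exists_pow_of_ringEquiv hN0 σ
    refine ⟨fun k => ⟨fun g => σ (k.1 g),
        mem_irrFinset.2 (IsIrrCharacter.map_ringEquiv (mem_irrFinset.1 k.2) σ)⟩,
      fun i a => ⟨(a : ℕ) * t % n i, Nat.mod_lt _ (hn i)⟩, fun a b h => ?_, fun i a b h => ?_,
      fun k j => ?_⟩
    · exact Subtype.ext (funext fun g => σ.injective (congrFun (congrArg Subtype.val h) g))
    · have h1 : (a : ℕ) * t ≡ (b : ℕ) * t [MOD n i] := congrArg Fin.val h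
      have h2 := Nat.ModEq.cancel_right_of_coprime
        (Nat.coprime_comm.1 (ht.coprime_dvd_right (hN ▸ Finset.dvd_prod_of_mem n (Finset.mem_univ i)))) h1
      exact Fin.ext (Nat.ModEq.eq_of_lt_of_lt h2 a.2 b.2)
    · simp only [x, map_mul, map_inv₀, map_natCast, map_sum, map_prod, map_pow]
      congr 1
      refine Finset.sum_congr rfl fun d _ => ?_
      congr 1
      refine Finset.prod_congr rfl fun i _ => ?_
      have h1 : (ψ i d⁻¹ : ℂ) ^ n i = 1 := by
        rw [← Units.val_pow_eq_pow_val, hψn, Units.val_one]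
      have h2 : (ψ i d⁻¹ : ℂ) ^ N = 1 := by
        obtain ⟨c, hc⟩ := hN ▸ Finset.dvd_prod_of_mem n (Finset.mem_univ i)
        rw [hc, pow_mul, h1, one_pow]
      rw [hσ _ h2, ← pow_mul, ← pow_eq_pow_mod _ h1, mul_comm]
  have hmain := card_mul_sq_le r n hn x hint hne hgal
  -- the weights
  obtain ⟨η, hη⟩ : ∃ η : D → ℕ, η = fun d => ∏ i, if ψ i d = 1 then 1 else n i + 1 := ⟨_, rfl⟩
  have hweight : ∀ d : D, weight n (ι d) = η d := fun d => by
    simp only [weight, hη]
    refine Finset.prod_congr rfl fun i _ => if_congr ?_ rfl rfl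
    rw [← Units.val_eq_one, he, (isPrimitiveRoot_zeta (hn i)).pow_eq_one_iff_dvd, hι]
    exact ⟨fun h => h ▸ dvd_zero _, fun h => Nat.eq_zero_of_dvd_of_lt h (e i d).2⟩
  have hzero : ∀ (k : κ) z, z ∉ Finset.univ.image ι → transform n (x k) z = 0 := fun k z hz => by
    rw [htr, Finset.sum_eq_zero, mul_zero]
    exact fun d _ => if_neg fun h => hz (Finset.mem_image.2 ⟨d, Finset.mem_univ _, h⟩)
  have hsum : ∀ k : κ, ∑ z, (weight n z : ℝ) * ‖transform n (x k) z‖ ^ 2 =
      ((N : ℝ) / Nat.card D) ^ 2 * ∑ d : D, (η d : ℝ) * ‖k.1 ((d : X) * v)‖ ^ 2 := by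
    intro k
    rw [← Finset.sum_subset (Finset.subset_univ (Finset.univ.image ι))
      (fun z _ hz => by rw [hzero k z hz]; simp), Finset.sum_image fun a _ b _ h => hιinj h,
      Finset.mul_sum]
    refine Finset.sum_congr rfl fun d _ => ?_
    rw [hweight, htr', norm_mul, norm_mul, norm_inv, Complex.norm_natCast, Complex.norm_natCast]
    ring
  rw [Finset.sum_congr rfl fun k _ => hsum k, ← Finset.mul_sum, Finset.sum_comm] at hmain
  have hcent : ∀ d : D, η d * Nat.card (Subgroup.centralizer ({(d : X) * v} : Set X)) ≤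
      Nat.card D * Nat.card V := by
    intro d
    have hfixle : Nat.card (Subgroup.centralizer ({(d : X) * v} : Set X)) ≤
        Nat.card D * Nat.card {w : V // φ d w = w} := by
      have hcomm : Commute (d : X) v := hDv d d.2
      have hov : (orderOf (d : X)).Coprime (orderOf v) := by
        rw [Subgroup.orderOf_coe, ← Subgroup.orderOf_mk v hv]
        exact (hDcop d).coprime_dvd_right (orderOf_dvd_natCard _)
      have hboth : ∀ y ∈ Subgroup.centralizer ({(d : X) * v} : Set X),
          y * (d : X) = (d : X) * y ∧ y * v = v * y := by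
        intro y hy
        have hy' : Commute y ((d : X) * v) := Subgroup.mem_centralizer_singleton_iff.1 hy
        constructor
        · have h1 : Commute y ((d : X) ^ orderOf v) := by
            have := hy'.pow_right (orderOf v)
            rwa [hcomm.mul_pow, pow_orderOf_eq_one, mul_one] at this
          obtain ⟨i, hi⟩ := exists_pow_eq_self_of_coprime (x := (d : X)) hov.symm
          exact hi ▸ (h1.pow_right i).eq
        · have h1 : Commute y (v ^ orderOf (d : X)) := by
            have := hy'.pow_right (orderOf (d : X))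
            rwa [hcomm.mul_pow, pow_orderOf_eq_one, one_mul] at this
          obtain ⟨i, hi⟩ := exists_pow_eq_self_of_coprime (x := v) hov
          exact hi ▸ (h1.pow_right i).eq
      have hdec : ∀ y : Subgroup.centralizer ({(d : X) * v} : Set X),
          ∃ a : D × {w : V // φ d w = w}, (a.2.1 : X) * (a.1 : X) = (y : X) := by
        intro y
        obtain ⟨⟨w, g⟩, hwg⟩ := hGV.surjective (y : X)
        have hwg' : (w : X) * (g : X) = y := hwg
        obtain ⟨hyd, hyv⟩ := hboth y y.2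
        have hgv : (g : X) * v = v * g := by
          have hgy : (g : X) = (w : X)⁻¹ * y := by rw [← hwg']; group
          have hwv : (w : X)⁻¹ * v = v * (w : X)⁻¹ := hVab _ (V.inv_mem w.2) v hv
          rw [hgy, mul_assoc, hyv, ← mul_assoc, hwv, mul_assoc]
        have hgD : (g : X) ∈ D := hD ▸ ⟨g.2, Subgroup.mem_centralizer_singleton_iff.2 hgv⟩
        have hgd : (g : X) * d = d * g := hab _ hgD _ d.2
        refine ⟨(⟨g, hgD⟩, ⟨w, Subtype.ext ?_⟩), hwg'⟩
        simp only [hφ, MonoidHom.comp_apply, Subgroup.subtype_apply, MulAut.conjNormal_apply]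
        rw [mul_inv_eq_iff_eq_mul]
        refine mul_right_cancel (b := (g : X)) ?_
        rw [mul_assoc, hwg', ← hyd, ← hwg', mul_assoc, hgd, ← mul_assoc]
      choose f hf using hdec
      rw [← Nat.card_prod]
      exact Nat.card_le_card_of_injective f fun a b h =>
        Subtype.ext ((hf a).symm.trans (h ▸ hf b))
    calc η d * Nat.card (Subgroup.centralizer ({(d : X) * v} : Set X))
        ≤ η d * (Nat.card D * Nat.card {w : V // φ d w = w}) := Nat.mul_le_mul_left _ hfixle
      _ = Nat.card D * (η d * Nat.card {w : V // φ d w = w}) := by ring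
      _ ≤ _ := Nat.mul_le_mul_left _ (by rw [hη]; exact hbound d)
  have hS : ∑ d : D, ∑ k : κ, (η d : ℝ) * ‖k.1 ((d : X) * v)‖ ^ 2 ≤
      (Nat.card D : ℝ) ^ 2 * Nat.card V := by
    have h1 : ∀ d : D, ∑ k : κ, (η d : ℝ) * ‖k.1 ((d : X) * v)‖ ^ 2 ≤
        ((Nat.card D * Nat.card V : ℕ) : ℝ) := fun d => by
      rw [← Finset.mul_sum, Finset.sum_coe_sort (irrFinset X) (fun χ => ‖χ ((d : X) * v)‖ ^ 2),
        sum_norm_sq_column, ← Nat.cast_mul, Nat.cast_le]
      exact hcent d
    refine (Finset.sum_le_sum fun d _ => h1 d).trans (le_of_eq ?_)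
    rw [Finset.sum_const, Finset.card_univ, nsmul_eq_mul, ← Nat.card_eq_fintype_card]
    push_cast; ring
  have hpos : (0 : ℝ) < (N : ℝ) ^ 2 := by positivity
  have hκ : (Fintype.card κ : ℝ) * (N : ℝ) ^ 2 ≤ (Nat.card V : ℝ) * (N : ℝ) ^ 2 := by
    rw [← hN] at hmain
    refine hmain.trans ((mul_le_mul_of_nonneg_left hS (by positivity)).trans (le_of_eq ?_))
    have : (Nat.card D : ℝ) ≠ 0 := by exact_mod_cast Nat.card_pos.ne'
    field_simp
  rw [← card_irr_eq_card_conjClasses, card_irr]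
  have := le_of_mul_le_mul_right hκ hpos
  rw [Fintype.card_coe] at this
  exact_mod_cast this

end CfsgLib.KGV
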