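import Cfsg.Agent.KGV.IntVirtual
import Cfsg.Agent.Blocks.LocalRing
import Cfsg.Agent.Char.Galois
import Mathlib.NumberTheory.LegendreSymbol.AddCharacter
import Mathlib.LinearAlgebra.Dimension.Constructions
import Mathlib.FieldTheory.Finiteness
import Mathlib.GroupTheory.GroupAction.Basic

/-!
# Gauss sums of an invariant symmetric form on a module of order prime to the group
-/

set_option autoImplicit false
set_option linter.style.haveILetI false

namespace CfsgLib.KGV

open CfsgLib.Char CfsgLib.Block Finset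
open scoped ComplexConjugate

universe u v

variable {H : Type u} [Group H] [Fintype H] {U : Type v} [AddCommGroup U] [Fintype U]
  [DistribMulAction H U]

open Classical in
theorem card_fixed_pow {p : ℕ} [Fact p.Prime] (hU : ∀ x : U, p • x = 0) (h : H) :
    ∃ e : ℕ, Nat.card {x : U // h • x = x} = p ^ e := by
  let : Module (ZMod p) U := AddCommGroup.zmodModule hU
  have h1 : Nat.card {x : U // h • x = x} ∣ Nat.card U := by
    let C : AddSubgroup U :=
      { carrier := {x | h • x = x}
        zero_mem' := smul_zero h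
        add_mem' := fun {a b} (ha : h • a = a) (hb : h • b = b) => by
          show h • (a + b) = a + b
          rw [smul_add, ha, hb]
        neg_mem' := fun {a} (ha : h • a = a) => by
          show h • (-a) = -a
          rw [smul_neg, ha] }
    exact AddSubgroup.card_addSubgroup_dvd_card C
  have : Module.Finite (ZMod p) U := Module.Finite.of_finite
  rw [@Module.natCard_eq_pow_finrank (ZMod p) U _ _ _ ‹_›, Nat.card_zmod] at h1
  obtain ⟨e, -, he⟩ := (Nat.dvd_prime_pow Fact.out).1 h1
  exact ⟨e, he⟩

open Classical in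
theorem intCoeff_fixed : IntCoeff fun h : H => (Nat.card {x : U // h • x = x} : ℂ) := by
  convert intCoeff_trace (H := H) (ι := U) (fun x y => if y = x then (1 : ℂ) else 0)
    (fun x y => by split_ifs <;> [exact isIntegral_one; exact isIntegral_zero])
    (fun g x y => by simp [smul_left_cancel_iff]) using 1
  funext h
  rw [Finset.sum_boole, Nat.card_eq_fintype_card, Fintype.card_subtype]

open Classical in
/-- The normalized Gauss sums of an invariant symmetric form. -/
theorem exists_gauss {p : ℕ} [Fact p.Prime] (hcop : ¬ p ∣ Nat.card H) (hU : ∀ x : U, p • x = 0)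
    (b : U →+ U →+ ZMod p) (hsymm : ∀ x y, b x y = b y x)
    (hinv : ∀ (h : H) x y, b (h • x) (h • y) = b x y) (hnd : ∀ x, (∀ y, b x y = 0) → x = 0) :
    ∃ f : (ZMod p)ˣ → H → ℂ, (∀ t, IntCoeff (f t)) ∧ (∀ t h, IsIntegral ℤ (f t h)) ∧
      (∀ t h, ‖f t h‖ ^ 2 * (Nat.card {x : U // h • x = x} : ℝ) = (Nat.card U : ℝ)) ∧
      (∀ t (h : H), (∀ x : U, h • x = x) → f t h = 1) ∧
      (∀ (M : Ideal Cfsg.AlgInt), Cfsg.IsPModular p M → ∀ t (h : H), ¬ (∀ x : U, h • x = x) →
        Cfsg.MemLocalIdeal M (f t h)) ∧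
      (∀ σ : ℂ ≃+* ℂ, ∃ u : (ZMod p)ˣ, ∀ t h, σ (f t h) = f (u * t) h) := by
  have hp : p.Prime := Fact.out
  have hζ := Complex.isPrimitiveRoot_exp p hp.ne_zero
  set ζ := Complex.exp (2 * Real.pi * Complex.I / p)
  let ψ : AddChar (ZMod p) ℂ := AddChar.zmodChar p hζ.pow_eq_one
  have hψ : ∀ a, ψ a = ζ ^ a.val := fun a => AddChar.zmodChar_apply hζ.pow_eq_one a
  have hψ1 : ∀ a, ψ a = 1 → a = 0 := fun a ha => by
    rw [hψ] at ha
    by_contra hne
    exact hζ.pow_ne_one_of_pos_of_lt (fun h0 => hne ((ZMod.val_eq_zero a).1 h0)) a.val_lt ha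
  have hψint : ∀ a, IsIntegral ℤ (ψ a) := fun a => by
    rw [hψ]; exact (hζ.isIntegral hp.pos).pow _
  have hψconj : ∀ a, conj (ψ a) = ψ (-a) := fun a => by
    rw [AddChar.map_neg_eq_inv, Complex.inv_eq_conj]
    rw [hψ, norm_pow, Complex.norm_eq_one_of_pow_eq_one hζ.pow_eq_one hp.ne_zero, one_pow]
  let q : H → U → ZMod p := fun h x => b x (h • x - x)
  let C : H → AddSubgroup U := fun h =>
    (DistribSMul.toAddMonoidHom U h - AddMonoidHom.id U).ker
  have hC : ∀ h x, x ∈ C h ↔ h • x = x := fun h x => by simp [C, sub_eq_zero]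
  have hCcard : ∀ h, Nat.card (C h) = Nat.card {x : U // h • x = x} := fun h =>
    Nat.card_congr (Equiv.subtypeEquivRight (hC h))
  have hqC : ∀ h x c, h • c = c → q h (x + c) = q h x := fun h x c hc => by
    have h1 : b c (h • x) = b c x := by
      conv_lhs => rw [← hc]
      rw [hinv]
    simp only [q, smul_add, hc, add_sub_add_right_eq_sub, map_add, AddMonoidHom.add_apply,
      map_sub, h1, sub_self, add_zero]
  let g : (ZMod p)ˣ → H → ℂ := fun t h => ∑ c : U ⧸ C h, ψ (t * q h c.out)
  have hG : ∀ (t : (ZMod p)ˣ) (h : H), ∑ x, ψ (t * q h x) = (Nat.card (C h) : ℂ) * g t h := fun t h => by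
    rw [Finset.mul_sum,
      ← Fintype.sum_equiv (AddSubgroup.addGroupEquivQuotientProdAddSubgroup (s := C h)).symm
        (fun cs : (U ⧸ C h) × C h => ψ (t * q h cs.1.out)) (fun x => ψ (t * q h x)),
      Fintype.sum_prod_type]
    · refine Finset.sum_congr rfl fun c _ => ?_
      simp only []
      rw [Finset.sum_const, Finset.card_univ, ← Nat.card_eq_fintype_card, nsmul_eq_mul]
    · rintro ⟨c, s⟩
      obtain ⟨x, hx⟩ : ∃ x, (AddSubgroup.addGroupEquivQuotientProdAddSubgroup (s := C h)).symm
          (c, s) = x := ⟨_, rfl⟩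
      rw [hx]
      have h2 : (x : U ⧸ C h) = c := by
        have := congrArg (fun z => ((AddSubgroup.addGroupEquivQuotientProdAddSubgroup
          (s := C h)) z).1) hx
        simp only [Equiv.apply_symm_apply] at this
        exact this.symm
      obtain ⟨d, hd⟩ : ∃ d ∈ C h, x = c.out + d := by
        refine ⟨-c.out + x, ?_, by abel⟩
        rw [← QuotientAddGroup.eq, QuotientAddGroup.out_eq', h2]
      rw [hd.2, hqC h _ d ((hC h d).1 hd.1)]
  have hcl : ∀ (t : (ZMod p)ˣ) (a c : H),
      ∑ x, ψ (t * q (c * a * c⁻¹) x) = ∑ x, ψ (t * q a x) := fun t a c => by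
    refine (Fintype.sum_equiv (MulAction.toPerm c) _ _ fun x => ?_).symm
    rw [MulAction.toPerm_apply]
    simp only [q]
    rw [smul_smul, inv_mul_cancel_right, ← smul_smul, ← smul_sub, hinv]
  have hw := intCoeff_fixed (H := H) (U := U)
  have hgint : ∀ t h, IsIntegral ℤ (g t h) := fun t h => IsIntegral.sum _ fun c _ => hψint _
  have hCpos : ∀ h, (Nat.card (C h) : ℂ) ≠ 0 := fun h => Nat.cast_ne_zero.2 Nat.card_pos.ne'
  refine ⟨g, fun t => ?_, hgint, fun t h => ?_, fun t h htriv => ?_, fun M hM t h hne => ?_,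
    fun σ => ?_⟩
  · have hF : IntCoeff fun h : H => ∑ x, ψ (t * q h x) :=
      intCoeff_trace (fun x y => ψ (t * b x (y - x))) (fun x y => hψint _)
        fun a x y => by rw [← smul_sub, hinv]
    refine IntCoeff.div_pow hp hcop hw (fun h => ?_) hF (fun a c => ?_) (hgint t) fun h => ?_
    · obtain ⟨e, he⟩ := card_fixed_pow hU h
      exact ⟨e, by rw [he]⟩
    · have h1 := hcl t a c
      rw [hG, hG] at h1
      rw [show (Nat.card (C (c * a * c⁻¹)) : ℂ) = (Nat.card (C a) : ℂ) by
        rw [hCcard, hCcard]; exact hw.1 a c] at h1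
      exact mul_left_cancel₀ (hCpos a) h1
    · rw [← hCcard, hG]
  · -- the absolute value
    have hker : ∀ d, (∀ x, b x (h • d + h⁻¹ • d - (d + d)) = 0) → h • d = d := fun d hd => by
      have h0 : h • d + h⁻¹ • d - (d + d) = 0 := hnd _ fun y => by rw [hsymm]; exact hd y
      set c := h • d - d with hcdef
      have hc : h • c = c := by
        have := congrArg (h • ·) h0
        simp only [smul_sub, smul_add, smul_inv_smul, smul_zero] at this
        rw [← sub_eq_zero, hcdef, smul_sub, ← this]
        abel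
      have hiter : ∀ n : ℕ, h ^ n • d = d + n • c := fun n => by
        induction n with
        | zero => simp
        | succ n ih =>
          rw [pow_succ', mul_smul, ih, smul_add, smul_comm h n c, hc, succ_nsmul', hcdef]
          abel
      have h3 : orderOf h • c = 0 := by
        have := hiter (orderOf h)
        rw [pow_orderOf_eq_one, one_smul] at this
        exact add_eq_left.1 this.symm
      have h4 : addOrderOf c ∣ Nat.gcd (orderOf h) p :=
        Nat.dvd_gcd (addOrderOf_dvd_of_nsmul_eq_zero h3) (addOrderOf_dvd_of_nsmul_eq_zero (hU c))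
      rw [(Nat.Coprime.coprime_dvd_left (orderOf_dvd_natCard h)
        (hp.coprime_iff_not_dvd.2 hcop).symm).gcd_eq_one, Nat.dvd_one,
        AddMonoid.addOrderOf_eq_one_iff] at h4
      exact sub_eq_zero.1 h4
    have hsq : (∑ x, ψ (t * q h x)) * conj (∑ x, ψ (t * q h x)) =
        (Nat.card U : ℂ) * (Nat.card (C h) : ℂ) := by
      rw [map_sum, Finset.sum_mul_sum]
      simp only [hψconj, ← AddChar.map_add_eq_mul, ← mul_neg, ← mul_add]
      rw [Finset.sum_comm]
      rw [Finset.sum_congr rfl fun y _ => Fintype.sum_equiv (Equiv.subRight y) _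
        (fun d => ψ (t * (q h (y + d) + -q h y))) fun x => by simp, Finset.sum_comm]
      have hexp : ∀ y d, q h (y + d) + -q h y =
          q h d + b y (h • d + h⁻¹ • d - (d + d)) := fun y d => by
        have h1 : b d (h • y) = b y (h⁻¹ • d) := by
          rw [hsymm d, ← hinv h y (h⁻¹ • d), smul_inv_smul]
        simp only [q, smul_add, map_add, map_sub, AddMonoidHom.add_apply, h1, hsymm d y]
        ring
      have hinner : ∀ d, ∑ y, ψ (t * (q h (y + d) + -q h y)) =
          if h • d = d then (Nat.card U : ℂ) else 0 := fun d => by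
        simp only [hexp, mul_add, AddChar.map_add_eq_mul, ← Finset.mul_sum]
        by_cases hd : h • d = d
        · have hd' : h⁻¹ • d = d := inv_smul_eq_iff.2 hd.symm
          rw [if_pos hd]
          simp [q, hd, hd', Nat.card_eq_fintype_card]
        · rw [if_neg hd]
          refine mul_eq_zero_of_right _ ?_
          obtain ⟨x0, hx0⟩ := not_forall.1 (mt (hker d) hd)
          set e := h • d + h⁻¹ • d - (d + d)
          have hne1 : ψ (t * b x0 e) ≠ 1 := fun h1 => hx0 (by
            have := hψ1 _ h1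
            rwa [Units.mul_right_eq_zero] at this)
          refine eq_zero_of_mul_eq_self_left hne1 ?_
          rw [Finset.mul_sum]
          refine Fintype.sum_equiv (Equiv.addLeft x0) _ _ fun y => ?_
          rw [Equiv.coe_addLeft, map_add, AddMonoidHom.add_apply, mul_add,
            AddChar.map_add_eq_mul]
      rw [Finset.sum_congr rfl fun d _ => hinner d, Finset.sum_ite, Finset.sum_const,
        Finset.sum_const_zero, add_zero, nsmul_eq_mul, hCcard, mul_comm]
      congr 1
      rw [Nat.card_eq_fintype_card, Fintype.card_subtype]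
    rw [hG, map_mul, Complex.conj_natCast, mul_mul_mul_comm] at hsq
    have h5 : (g t h * conj (g t h)) * (Nat.card (C h) : ℂ) = (Nat.card U : ℂ) := by
      refine mul_right_cancel₀ (hCpos h) ?_
      linear_combination hsq
    rw [Complex.mul_conj'] at h5
    rw [← hCcard]
    exact_mod_cast h5
  · have h1 := hG t h
    have h2 : ∀ x, q h x = 0 := fun x => by simp [q, htriv x]
    simp only [h2, mul_zero, AddChar.map_zero_eq_one, Finset.sum_const, Finset.card_univ,
      nsmul_eq_mul, mul_one] at h1
    rw [← Nat.card_eq_fintype_card, show Nat.card (C h) = Nat.card U by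
      rw [AddSubgroup.card_eq_iff_eq_top, eq_top_iff]; exact fun x _ => (hC h x).2 (htriv x)] at h1
    exact (mul_eq_left₀ (Nat.cast_ne_zero.2 Nat.card_pos.ne')).1 h1.symm
  · haveI : M.IsPrime := hM.2.1.isPrime
    have hterm : ∀ a, Cfsg.MemLocalIdeal M (ψ a - 1) := fun a => by
      have h1 : ((⟨ψ a, integral_mem_localRing (hψint a)⟩ : localRing M)) ^ p ^ 1 = 1 := by
        apply Subtype.ext
        show ψ a ^ p ^ 1 = 1
        rw [hψ, pow_one, ← pow_mul, mul_comm, pow_mul, hζ.pow_eq_one, one_pow]
      have h2 := res_eq_one_of_pow_eq_one hM h1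
      rw [← map_one (res M), res_eq_iff] at h2
      exact h2
    have hcard : p ∣ Nat.card (U ⧸ C h) := by
      let : Module (ZMod p) U := AddCommGroup.zmodModule hU
      have h1 : (C h).index ∣ Nat.card U := AddSubgroup.index_dvd_card _
      have : Module.Finite (ZMod p) U := Module.Finite.of_finite
      rw [@Module.natCard_eq_pow_finrank (ZMod p) U _ _ _ ‹_›, Nat.card_zmod] at h1
      obtain ⟨e, -, he⟩ := (Nat.dvd_prime_pow hp).1 h1
      rw [← AddSubgroup.index_eq_card, he]
      refine dvd_pow_self p fun he0 => hne fun x => (hC h x).1 ?_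
      rw [he0, pow_zero, AddSubgroup.index_eq_one] at he
      rw [he]; exact AddSubgroup.mem_top x
    have : g t h = ∑ c : U ⧸ C h, (ψ (t * q h c.out) - 1) + (Nat.card (U ⧸ C h) : ℂ) := by
      rw [Finset.sum_sub_distrib, Finset.sum_const, Finset.card_univ, ← Nat.card_eq_fintype_card,
        nsmul_one, sub_add_cancel]
    rw [this]
    exact memLocalIdeal_add (memLocalIdeal_sum fun c _ => hterm _)
      ((memLocalIdeal_natCast_iff hM).2 hcard)
  · obtain ⟨u, hu, hσ⟩ := exists_pow_of_ringEquiv hp.pos σ
    have hu' : IsUnit (u : ZMod p) := (ZMod.isUnit_iff_coprime u p).2 hu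
    refine ⟨hu'.unit, fun t h => ?_⟩
    simp only [g, map_sum]
    refine Finset.sum_congr rfl fun c _ => ?_
    rw [hψ, hσ _ (by rw [← pow_mul, mul_comm, pow_mul, hζ.pow_eq_one, one_pow]), ← hψ,
      ← AddChar.map_nsmul_eq_pow, nsmul_eq_mul, Units.val_mul, IsUnit.unit_spec, mul_assoc]

end CfsgLib.KGV
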