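import Cfsg.Agent.KGV.GaussPiece
import Cfsg.Agent.Char.Equivalence
import Mathlib.GroupTheory.SchurZassenhaus
import Mathlib.RingTheory.RootsOfUnity.Complex

/-!
# The Weil character of a symplectic module of order prime to the group, for odd primes

The intertwining operators of determinant one for a faithful irreducible representation of the
Heisenberg group form an extension of the group by scalars of `p`-power order, which splits.  The
resulting character is rational and its square is the number of fixed points.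
-/

set_option autoImplicit false
set_option linter.style.haveILetI false

namespace CfsgLib.KGV

open CfsgLib.Char CfsgLib.Block
open scoped ComplexConjugate

universe u v

variable {p : ℕ} {U : Type v} [AddCommGroup U]

/-- The Heisenberg group of a bi-additive map. -/
@[ext]
structure Heis (a : U →+ U →+ ZMod p) : Type v where
  /-- The central coordinate. -/
  z : ZMod p
  /-- The vector coordinate. -/
  u : U

instance (a : U →+ U →+ ZMod p) : Group (Heis a) where
  mul x y := ⟨x.z + y.z + a x.u y.u, x.u + y.u⟩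
  one := ⟨0, 0⟩
  inv x := ⟨-x.z + a x.u x.u, -x.u⟩
  mul_assoc x y w := by
    apply Heis.ext
    · show x.z + y.z + a x.u y.u + w.z + a (x.u + y.u) w.u =
        x.z + (y.z + w.z + a y.u w.u) + a x.u (y.u + w.u)
      rw [map_add, map_add, AddMonoidHom.add_apply]; abel
    · exact add_assoc _ _ _
  one_mul x := by
    apply Heis.ext
    · show 0 + x.z + a 0 x.u = x.z
      simp
    · exact zero_add _
  mul_one x := by
    apply Heis.ext
    · show x.z + 0 + a x.u 0 = x.z
      simp
    · exact add_zero _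
  inv_mul_cancel x := by
    apply Heis.ext
    · show -x.z + a x.u x.u + x.z + a (-x.u) x.u = 0
      rw [map_neg, AddMonoidHom.neg_apply]; abel
    · exact neg_add_cancel _

theorem Heis.mul_def (a : U →+ U →+ ZMod p) (x y : Heis a) :
    x * y = ⟨x.z + y.z + a x.u y.u, x.u + y.u⟩ := rfl

theorem Heis.one_def (a : U →+ U →+ ZMod p) : (1 : Heis a) = ⟨0, 0⟩ := rfl

theorem Heis.inv_def (a : U →+ U →+ ZMod p) (x : Heis a) :
    x⁻¹ = ⟨-x.z + a x.u x.u, -x.u⟩ := rfl

/-- The two coordinates. -/
def Heis.equivProd (a : U →+ U →+ ZMod p) : Heis a ≃ ZMod p × U where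
  toFun x := (x.z, x.u)
  invFun x := ⟨x.1, x.2⟩
  left_inv _ := rfl
  right_inv _ := rfl

variable [Fintype U] [Fact p.Prime] {H : Type u} [Group H] [Fintype H] [DistribMulAction H U]

open Classical in
/-- The normalized Weil character of an invariant symplectic form. -/
theorem exists_weil (hcop : ¬ p ∣ Nat.card H) (hp2 : p ≠ 2) (hU : ∀ x : U, p • x = 0)
    (a : U →+ U →+ ZMod p) (halt : ∀ x, a x x = 0)
    (hinv : ∀ (h : H) x y, a (h • x) (h • y) = a x y) (hnd : ∀ x, (∀ y, a x y = 0) → x = 0) :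
    ∃ f : H → ℂ, IntCoeff f ∧ (∀ h, IsIntegral ℤ (f h)) ∧
      (∀ h, ‖f h‖ ^ 2 * (Nat.card {x : U // h • x = x} : ℝ) = (Nat.card U : ℝ)) ∧ f 1 = 1 ∧
      (∀ (M : Ideal Cfsg.AlgInt), Cfsg.IsPModular p M → ∀ h : H, ¬ (∀ x : U, h • x = x) →
        Cfsg.MemLocalIdeal M (f h)) ∧
      (∀ (σ : ℂ ≃+* ℂ) h, σ (f h) = f h) := by
  have hp : p.Prime := Fact.out
  have := Finite.of_equiv _ (Heis.equivProd a).symm
  let := Fintype.ofFinite (Heis a)
  have hcardE : Nat.card (Heis a) = p * Nat.card U := by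
    rw [Nat.card_congr (Heis.equivProd a), Nat.card_prod, Nat.card_zmod]
  have hskew : ∀ x y, a y x = - a x y := fun x y => by
    have := halt (x + y)
    rw [map_add, map_add, AddMonoidHom.add_apply, AddMonoidHom.add_apply, halt, halt, zero_add,
      add_zero] at this
    exact eq_neg_of_add_eq_zero_left this
  -- a faithful irreducible representation
  set z0 : Heis a := ⟨1, 0⟩ with hz0def
  have hz0 : z0 ≠ 1 := fun h => one_ne_zero (congrArg Heis.z h : (1 : ZMod p) = 0)
  have hcent : ∀ (k : ZMod p) (e : Heis a), Commute (⟨k, 0⟩ : Heis a) e := fun k e => by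
    show _ * _ = _ * _
    rw [Heis.mul_def, Heis.mul_def]
    simp [add_comm]
  obtain ⟨θ, hθ, hθz⟩ : ∃ θ, Cfsg.IsIrrCharacter (Heis a) θ ∧ θ z0 ≠ θ 1 := by
    by_contra! hne
    exact hz0 (isConj_one_left.1 ((isConj_iff_irr_eq z0 1).2 hne))
  obtain ⟨d, ρ, hρ, hρθ⟩ := hθ
  have hθ : Cfsg.IsIrrCharacter (Heis a) θ := ⟨d, ρ, hρ, hρθ⟩
  let R : Heis a →* Matrix (Fin d) (Fin d) ℂ :=
    ((LinearMap.toMatrixAlgEquiv' : (Module.End ℂ (Fin d → ℂ)) ≃ₐ[ℂ]
      Matrix (Fin d) (Fin d) ℂ).toMulEquiv.toMonoidHom).comp ρ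
  have hRtr : ∀ e, (R e).trace = θ e := fun e => by
    rw [← hρθ]
    exact (LinearMap.trace_eq_matrix_trace ℂ (Pi.basisFun ℂ (Fin d)) (ρ e)).symm
  have hθ1 : θ 1 = (d : ℂ) := by rw [← hρθ, ρ.char_one, Module.finrank_fin_fun]
  have hd : (d : ℂ) ≠ 0 := hθ1 ▸ IsIrrCharacter.apply_one_ne_zero hθ
  -- Schur's lemma
  have schur : ∀ X : Matrix (Fin d) (Fin d) ℂ, (∀ e, X * R e = R e * X) →
      ∃ s : ℂ, X = s • 1 := by
    intro X hX
    haveI := hρ
    let f : Representation.IntertwiningMap ρ ρ := ⟨Matrix.toLinAlgEquiv' X, fun e => by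
      have := congrArg Matrix.toLinAlgEquiv' (hX e)
      rw [map_mul, map_mul] at this
      have h2 : Matrix.toLinAlgEquiv' (R e) = ρ e :=
        LinearMap.toMatrixAlgEquiv'.symm_apply_apply (ρ e)
      rwa [h2] at this⟩
    obtain ⟨s, hs⟩ := (Representation.IsIrreducible.algebraMap_intertwiningMap_bijective_of_isAlgClosed (ρ := ρ)).2 f
    refine ⟨s, Matrix.toLinAlgEquiv'.injective ?_⟩
    rw [map_smul, map_one]
    refine (congrArg Representation.IntertwiningMap.toLinearMap hs).symm.trans ?_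
    ext v
    simp [Algebra.algebraMap_eq_smul_one]
  have hscalar : ∀ k : ZMod p, ∃ c : ℂ, R ⟨k, 0⟩ = c • 1 := fun k =>
    schur _ fun e => by rw [← map_mul, ← map_mul, (hcent k e).eq]
  choose c hc using hscalar
  have hcmul : ∀ k l, c (k + l) = c k * c l := fun k l => by
    have h1 : (⟨k + l, 0⟩ : Heis a) = ⟨k, 0⟩ * ⟨l, 0⟩ := by
      rw [Heis.mul_def]; simp
    have h2 := congrArg (fun X => Matrix.trace (R X)) h1
    simp only [map_mul, hc, smul_mul_smul_comm, one_mul, Matrix.trace_smul, Matrix.trace_one,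
      Fintype.card_fin, smul_eq_mul] at h2
    exact mul_right_cancel₀ hd h2
  have hc0 : c 0 = 1 := by
    have h2 := congrArg Matrix.trace (hc 0)
    rw [show (⟨0, 0⟩ : Heis a) = 1 from rfl, map_one, Matrix.trace_smul, Matrix.trace_one,
      Fintype.card_fin, smul_eq_mul] at h2
    exact ((mul_eq_right₀ hd).1 h2.symm)
  have hc1 : c 1 ≠ 1 := fun h => hθz (by
    rw [← hRtr, ← hRtr, hz0def, hc, h, one_smul, map_one])
  have hcn : ∀ n : ℕ, c n = c 1 ^ n := fun n => by
    induction n with
    | zero => simpa using hc0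
    | succ n ih => rw [Nat.cast_succ, hcmul, ih, pow_succ]
  have hc1p : c 1 ^ p = 1 := by rw [← hcn, ZMod.natCast_self, hc0]
  have hcprim : IsPrimitiveRoot (c 1) p := IsPrimitiveRoot.iff_orderOf.2
    (orderOf_eq_prime hc1p hc1)
  have hck : ∀ k : ZMod p, c k = c 1 ^ k.val := fun k => by rw [← hcn, ZMod.natCast_zmod_val]
  have hck1 : ∀ k : ZMod p, c k = 1 → k = 0 := fun k hk => by
    rw [hck] at hk
    by_contra hne
    exact hcprim.pow_ne_one_of_pos_of_lt (fun h0 => hne ((ZMod.val_eq_zero k).1 h0)) k.val_lt hk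
  have h2 : (2 : ZMod p) ≠ 0 := fun h => by
    have : ((2 : ℕ) : ZMod p) = 0 := by exact_mod_cast h
    exact hp2 ((Nat.prime_dvd_prime_iff_eq hp Nat.prime_two).1
      ((ZMod.natCast_eq_zero_iff _ _).1 this))
  -- the values of the character
  have hθval : ∀ e : Heis a, θ e = if e.u = 0 then c e.z * d else 0 := by
    intro e
    by_cases he : e.u = 0
    · rw [if_pos he, ← hRtr, show e = ⟨e.z, 0⟩ from Heis.ext rfl he, hc, Matrix.trace_smul,
        Matrix.trace_one, Fintype.card_fin, smul_eq_mul]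
    · rw [if_neg he]
      obtain ⟨y, hy⟩ := not_forall.1 (mt (hnd e.u) he)
      have h1 : (⟨0, y⟩ : Heis a) * e * (⟨0, y⟩ : Heis a)⁻¹ =
          (⟨a y e.u + a y e.u, 0⟩ : Heis a) * e := by
        rw [mul_inv_eq_iff_eq_mul, Heis.mul_def, Heis.mul_def, Heis.mul_def]
        apply Heis.ext
        · simp only [map_zero, AddMonoidHom.zero_apply, zero_add, add_zero, hskew y e.u]
          abel
        · simp [add_comm]
      have h3 := IsIrrCharacter.isClassFunction hθ e ⟨0, y⟩
      rw [h1, ← hRtr, ← hRtr, map_mul, hc, smul_mul_assoc, one_mul, Matrix.trace_smul, hRtr,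
        smul_eq_mul] at h3
      by_contra hne
      have h4 := hck1 _ ((mul_eq_right₀ hne).1 h3)
      rw [← two_mul, mul_eq_zero, or_iff_right h2] at h4
      exact hy (by rw [hskew y e.u, h4, neg_zero])
  have hd2 : d * d = Nat.card U := by
    have h1 := IsIrrCharacter.classInner_self hθ
    rw [classInner_def] at h1
    have h3 : ∑ e : Heis a, θ e * conj (θ e) = (p : ℂ) * ((d : ℂ) * d) := by
      rw [Fintype.sum_equiv (Heis.equivProd a) _
        (fun x => if x.2 = 0 then (d : ℂ) * d else 0) fun e => ?_, Fintype.sum_prod_type]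
      · simp [Finset.sum_ite_eq', ZMod.card]
      · rw [hθval]
        show _ = if e.u = 0 then (d : ℂ) * d else 0
        split_ifs with he
        · have : c e.z * conj (c e.z) = 1 := by
            rw [Complex.mul_conj', hck, norm_pow, Complex.norm_eq_one_of_pow_eq_one hc1p hp.ne_zero]
            simp
          rw [map_mul, Complex.conj_natCast, mul_mul_mul_comm, this, one_mul]
        · simp
    rw [h3, inv_mul_eq_one₀ (Nat.cast_ne_zero.2 Nat.card_pos.ne'), hcardE, Nat.cast_mul] at h1
    exact_mod_cast (mul_left_cancel₀ (Nat.cast_ne_zero.2 hp.ne_zero) h1).symm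
  -- the automorphisms
  let α : H → Heis a ≃* Heis a := fun h =>
    { toFun := fun e => ⟨e.z, h • e.u⟩
      invFun := fun e => ⟨e.z, h⁻¹ • e.u⟩
      left_inv := fun e => Heis.ext rfl (inv_smul_smul h e.u)
      right_inv := fun e => Heis.ext rfl (smul_inv_smul h e.u)
      map_mul' := fun e e' => by
        rw [Heis.mul_def, Heis.mul_def]
        exact Heis.ext (by rw [hinv]) (smul_add h e.u e'.u) }
  have hαmul : ∀ g h e, α (g * h) e = α g (α h e) := fun g h e => Heis.ext rfl (mul_smul g h e.u)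
  let Γ : Subgroup (H × (Matrix (Fin d) (Fin d) ℂ)ˣ) :=
    { carrier := {w | (w.2 : Matrix (Fin d) (Fin d) ℂ).det = 1 ∧
        ∀ e, (w.2 : Matrix (Fin d) (Fin d) ℂ) * R e = R (α w.1 e) * w.2}
      one_mem' := ⟨by simp, fun e => by
        rw [show α (1 : H × (Matrix (Fin d) (Fin d) ℂ)ˣ).1 e = e from
          Heis.ext rfl (one_smul H e.u)]
        simp⟩
      mul_mem' := fun {v w} hv hw => ⟨by
          rw [Prod.snd_mul, Units.val_mul, Matrix.det_mul, hv.1, hw.1, one_mul],
        fun e => by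
          rw [Prod.snd_mul, Units.val_mul, Prod.fst_mul, hαmul, mul_assoc, hw.2, ← mul_assoc,
            hv.2, mul_assoc]⟩
      inv_mem' := fun {v} hv => ⟨by
          have h := congrArg Matrix.det v.2.mul_inv
          rw [Matrix.det_mul, hv.1, one_mul, Matrix.det_one] at h
          exact h,
        fun e => by
          have h := hv.2 (α v.1⁻¹ e)
          rw [← hαmul, mul_inv_cancel, show α 1 e = e from Heis.ext rfl (one_smul H e.u)] at h
          show ((v.2⁻¹ : (Matrix (Fin d) (Fin d) ℂ)ˣ) : Matrix (Fin d) (Fin d) ℂ) * R e =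
            R (α v.1⁻¹ e) * ((v.2⁻¹ : (Matrix (Fin d) (Fin d) ℂ)ˣ) : Matrix (Fin d) (Fin d) ℂ)
          rw [Units.inv_mul_eq_iff_eq_mul, ← mul_assoc, h, mul_assoc, Units.mul_inv, mul_one]⟩ }
  have hdne : d ≠ 0 := fun h => hd (by rw [h, Nat.cast_zero])
  have hsurj : ∀ h, ∃ w : Γ, w.1.1 = h := by
    intro h
    have hch : ρ.character = Representation.character (ρ.comp (α h).toMonoidHom) := by
      funext e
      show ρ.character e = ρ.character (α h e)
      rw [hρθ, hθval, hθval]
      show _ = if h • e.u = 0 then c e.z * (d : ℂ) else 0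
      simp [smul_eq_zero_iff_eq]
    obtain ⟨e0⟩ := equiv_of_character_eq ρ _ hch
    let X : Matrix (Fin d) (Fin d) ℂ :=
      LinearMap.toMatrixAlgEquiv' e0.toIntertwiningMap.toLinearMap
    let Y : Matrix (Fin d) (Fin d) ℂ :=
      LinearMap.toMatrixAlgEquiv' e0.symm.toIntertwiningMap.toLinearMap
    have hXY : X * Y = 1 := by
      rw [← map_mul, ← map_one LinearMap.toMatrixAlgEquiv']
      congr 1
      exact LinearMap.ext fun v => e0.apply_symm_apply v
    have hint : ∀ e, X * R e = R (α h e) * X := fun e => by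
      show LinearMap.toMatrixAlgEquiv' _ * LinearMap.toMatrixAlgEquiv' (ρ e) =
        LinearMap.toMatrixAlgEquiv' (ρ (α h e)) * LinearMap.toMatrixAlgEquiv' _
      rw [← map_mul, ← map_mul]
      congr 1
      exact e0.toIntertwiningMap.isIntertwining' e
    have hdet : X.det ≠ 0 := fun h0 => by
      have := congrArg Matrix.det hXY
      rw [Matrix.det_mul, h0, zero_mul, Matrix.det_one] at this
      exact zero_ne_one this
    obtain ⟨r, hr⟩ := IsAlgClosed.exists_pow_nat_eq (X.det)⁻¹ (Nat.pos_of_ne_zero hdne)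
    have hdet1 : (r • X).det = 1 := by
      rw [Matrix.det_smul, Fintype.card_fin, hr, inv_mul_cancel₀ hdet]
    obtain ⟨v, hv⟩ := (Matrix.isUnit_iff_isUnit_det (r • X)).2 (hdet1 ▸ isUnit_one)
    refine ⟨⟨(h, v), ?_, fun e => ?_⟩, rfl⟩
    · rw [hv]; exact hdet1
    · rw [hv, smul_mul_assoc, hint, mul_smul_comm]
  let π : Γ →* H := (MonoidHom.fst H _).comp Γ.subtype
  have hπ : Function.Surjective π := hsurj
  -- the kernel consists of scalars
  have : NeZero d := ⟨hdne⟩
  have hkerscalar : ∀ w : π.ker, ∃ s : ℂ, s ^ d = 1 ∧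
      ((w : Γ).1.2 : Matrix (Fin d) (Fin d) ℂ) = s • 1 := fun w => by
    obtain ⟨s, hs⟩ := schur ((w : Γ).1.2 : Matrix (Fin d) (Fin d) ℂ) fun e => by
      rw [(w : Γ).2.2 e, show (w : Γ).1.1 = 1 from w.2,
        show α 1 e = e from Heis.ext rfl (one_smul H e.u)]
    have := (w : Γ).2.1
    rw [hs, Matrix.det_smul, Matrix.det_one, Fintype.card_fin, mul_one] at this
    exact ⟨s, this, hs⟩
  choose s hs hsv using hkerscalar
  let κ : π.ker →* rootsOfUnity d ℂ :=
    { toFun := fun w => rootsOfUnity.mkOfPowEq (s w) (hs w)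
      map_one' := by
        refine Subtype.ext (Units.ext ?_)
        have h := congrArg Matrix.trace (hsv 1)
        simp only [OneMemClass.coe_one, Prod.snd_one, Units.val_one, Matrix.trace_smul,
          Matrix.trace_one, Fintype.card_fin, smul_eq_mul] at h
        exact ((mul_eq_right₀ hd).1 h.symm)
      map_mul' := fun v w => by
        refine Subtype.ext (Units.ext ?_)
        have h := congrArg Matrix.trace (hsv (v * w))
        simp only [Subgroup.coe_mul, Prod.snd_mul, Units.val_mul, hsv, smul_mul_smul_comm, one_mul,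
          Matrix.trace_smul, Matrix.trace_one, Fintype.card_fin, smul_eq_mul] at h
        exact (mul_right_cancel₀ hd h).symm }
  have hκ : Function.Injective κ := fun v w h => by
    have h1 : s v = s w := congrArg (fun z : rootsOfUnity d ℂ => ((z : ℂˣ) : ℂ)) h
    refine Subtype.ext (Subtype.ext (Prod.ext (v.2.trans w.2.symm) (Units.ext ?_)))
    rw [hsv, hsv, h1]
  have hkfin : Finite π.ker := Finite.of_injective κ hκ
  obtain ⟨j, hj⟩ : ∃ j, d = p ^ j := by
    let : Module (ZMod p) U := AddCommGroup.zmodModule hU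
    have hf : Module.Finite (ZMod p) U := Module.Finite.of_finite
    have h : d ∣ Nat.card U := Dvd.intro d hd2
    rw [@Module.natCard_eq_pow_finrank (ZMod p) U _ _ _ hf, Nat.card_zmod] at h
    obtain ⟨j, -, hj⟩ := (Nat.dvd_prime_pow hp).1 h
    exact ⟨j, hj⟩
  have hkcard : Nat.card π.ker ∣ d := by
    have h := Subgroup.card_dvd_of_injective κ hκ
    rwa [Complex.card_rootsOfUnity] at h
  have hidx : π.ker.index = Nat.card H := by
    rw [Subgroup.index_ker, MonoidHom.range_eq_top.2 hπ, Subgroup.card_top]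
  have hΓfin : Finite Γ :=
    Nat.finite_of_card_ne_zero (by
      rw [← Subgroup.card_mul_index π.ker, hidx]
      exact Nat.mul_ne_zero Nat.card_pos.ne' Nat.card_pos.ne')
  obtain ⟨K, hK⟩ := Subgroup.exists_right_complement'_of_coprime (N := π.ker) (by
    rw [hidx]
    exact Nat.Coprime.coprime_dvd_left hkcard
      (hj ▸ Nat.Coprime.pow_left j (hp.coprime_iff_not_dvd.2 hcop)))
  let e : K ≃* H := MulEquiv.ofBijective (π.comp K.subtype) ⟨fun v w h => by
      have hmem : (v : Γ) * (w : Γ)⁻¹ ∈ π.ker ⊓ K := ⟨by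
        show π ((v : Γ) * (w : Γ)⁻¹) = 1
        rw [map_mul, map_inv]
        exact mul_inv_eq_one.2 h, K.mul_mem v.2 (K.inv_mem w.2)⟩
      rw [hK.disjoint.eq_bot, Subgroup.mem_bot, mul_inv_eq_one] at hmem
      exact Subtype.ext hmem,
    fun h => by
      obtain ⟨w, hw⟩ := hπ h
      obtain ⟨⟨n, k⟩, hnk⟩ := hK.surjective w
      refine ⟨k, ?_⟩
      show π (k : Γ) = h
      rw [← hw, ← (show (n : Γ) * (k : Γ) = w from hnk), map_mul, show π (n : Γ) = 1 from n.2,
        one_mul]⟩
  let Mh : H →* (Matrix (Fin d) (Fin d) ℂ)ˣ :=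
    (MonoidHom.snd H _).comp (Γ.subtype.comp (K.subtype.comp e.symm.toMonoidHom))
  have hM : ∀ h, ((Mh h : Matrix (Fin d) (Fin d) ℂ)).det = 1 ∧
      ∀ x, (Mh h : Matrix (Fin d) (Fin d) ℂ) * R x = R (α h x) * Mh h := fun h => by
    have h1 : ((e.symm h : K) : Γ).1.1 = h := e.apply_symm_apply h
    have h2 := ((e.symm h : K) : Γ).2
    refine ⟨h2.1, fun x => ?_⟩
    have h3 := h2.2 x
    rw [h1] at h3
    exact h3
  set φ : H → ℂ := fun h => (Mh h : Matrix (Fin d) (Fin d) ℂ).trace with hφdef
  have hφc : Cfsg.IsCharacter H φ := by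
    let σ0 : Representation ℂ H (Fin d → ℂ) :=
      (Matrix.toLinAlgEquiv'.toMulEquiv.toMonoidHom).comp ((Units.coeHom _).comp Mh)
    convert isCharacter_character σ0 using 1
    funext h
    show _ = LinearMap.trace ℂ _ (Matrix.toLinAlgEquiv' (Mh h : Matrix (Fin d) (Fin d) ℂ))
    exact (Matrix.trace_toLin'_eq _).symm
  -- the square of the absolute value
  have hsq : ∀ h, φ h * φ h⁻¹ = (Nat.card {x : U // h • x = x} : ℂ) := by
    intro h
    obtain ⟨S, hSdef⟩ : ∃ S, S = ∑ x : Heis a,
        R x * (Mh h⁻¹ : Matrix (Fin d) (Fin d) ℂ) * R x⁻¹ := ⟨_, rfl⟩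
    obtain ⟨t, ht⟩ := schur S fun y => by
      rw [hSdef, Finset.sum_mul, Finset.mul_sum]
      refine (Fintype.sum_equiv (Equiv.mulLeft y) _ _ fun x => ?_).symm
      rw [Equiv.coe_mulLeft, map_mul, mul_inv_rev, map_mul]
      simp only [mul_assoc]
      rw [← map_mul R y⁻¹, inv_mul_cancel, map_one, mul_one]
    have htr : S.trace = (Nat.card (Heis a) : ℂ) * φ h⁻¹ := by
      rw [hSdef, Matrix.trace_sum]
      have : ∀ x, (R x * (Mh h⁻¹ : Matrix (Fin d) (Fin d) ℂ) * R x⁻¹).trace = φ h⁻¹ := fun x => by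
        rw [Matrix.trace_mul_cycle, ← map_mul, inv_mul_cancel, map_one, one_mul]
      rw [Finset.sum_congr rfl fun x _ => this x, Finset.sum_const, Finset.card_univ,
        ← Nat.card_eq_fintype_card, nsmul_eq_mul]
    have h3 : ((Mh h : Matrix (Fin d) (Fin d) ℂ) * S).trace =
        (p : ℂ) * (Nat.card {x : U // h • x = x} : ℂ) * d := by
      rw [hSdef, Finset.mul_sum, Matrix.trace_sum]
      have : ∀ x, ((Mh h : Matrix (Fin d) (Fin d) ℂ) *
          (R x * (Mh h⁻¹ : Matrix (Fin d) (Fin d) ℂ) * R x⁻¹)).trace = θ (α h x * x⁻¹) := fun x => by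
        rw [← mul_assoc, ← mul_assoc, (hM h).2, mul_assoc (R _), ← Units.val_mul, ← map_mul,
          mul_inv_cancel, map_one, Units.val_one, mul_one, ← map_mul, hRtr]
      rw [Finset.sum_congr rfl fun x _ => this x, Fintype.sum_equiv (Heis.equivProd a) _
        (fun x => if h • x.2 = x.2 then (d : ℂ) else 0) fun x => ?_, Fintype.sum_prod_type]
      · simp only [Finset.sum_ite, Finset.sum_const_zero, add_zero, Finset.sum_const,
          Finset.card_univ, ZMod.card, nsmul_eq_mul, Nat.card_eq_fintype_card, Fintype.card_subtype]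
        ring
      · rw [hθval, Heis.inv_def, Heis.mul_def]
        show (if h • x.u + -x.u = 0 then c (x.z + (-x.z + a x.u x.u) + a (h • x.u) (-x.u)) * (d : ℂ)
          else 0) = if h • x.u = x.u then (d : ℂ) else 0
        by_cases hx : h • x.u = x.u
        · rw [if_pos hx, if_pos (by rw [hx, add_neg_cancel]), hx, map_neg, halt, neg_zero,
            add_zero, add_zero, add_neg_cancel, hc0, one_mul]
        · rw [if_neg hx, if_neg fun h0 => hx (add_neg_eq_zero.1 h0)]
    rw [ht, Matrix.trace_smul, Matrix.trace_one, Fintype.card_fin, smul_eq_mul, hcardE,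
      Nat.cast_mul, ← hd2, Nat.cast_mul] at htr
    rw [ht, mul_smul_comm, mul_one, Matrix.trace_smul, smul_eq_mul] at h3
    refine mul_left_cancel₀ (mul_ne_zero (Nat.cast_ne_zero.2 hp.ne_zero) (mul_ne_zero hd hd)) ?_
    linear_combination (d : ℂ) * h3 - φ h * htr
  -- rationality
  have hfix : ∀ σ : ℂ ≃+* ℂ, σ (c 1) = c 1 → ∀ h, σ (φ h) = φ h := by
    intro σ hσ h
    let σR : Heis a →* Matrix (Fin d) (Fin d) ℂ :=
      (σ.toRingHom.mapMatrix.toMonoidHom).comp R
    have hch : ρ.character =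
        Representation.character ((Matrix.toLinAlgEquiv'.toMulEquiv.toMonoidHom).comp σR :
          Representation ℂ (Heis a) (Fin d → ℂ)) := by
      funext x
      show _ = LinearMap.trace ℂ _ (Matrix.toLinAlgEquiv' (σR x))
      refine Eq.trans ?_ (Matrix.trace_toLin'_eq _).symm
      show _ = ((R x).map σ).trace
      rw [show ((R x).map σ).trace = σ (R x).trace by simp [Matrix.trace, map_sum]]
      rw [hρθ, hRtr, hθval]
      split_ifs
      · rw [map_mul, map_natCast, hck, map_pow, hσ]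
      · rw [map_zero]
    obtain ⟨e0⟩ := equiv_of_character_eq ρ _ hch
    let X : Matrix (Fin d) (Fin d) ℂ :=
      LinearMap.toMatrixAlgEquiv' e0.toIntertwiningMap.toLinearMap
    let Y : Matrix (Fin d) (Fin d) ℂ :=
      LinearMap.toMatrixAlgEquiv' e0.symm.toIntertwiningMap.toLinearMap
    have hXY : X * Y = 1 := by
      rw [← map_mul, ← map_one LinearMap.toMatrixAlgEquiv']
      congr 1
      exact LinearMap.ext fun v => e0.apply_symm_apply v
    have hYX : Y * X = 1 := mul_eq_one_comm.1 hXY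
    have hint : ∀ x, X * R x = (R x).map σ * X := fun x => by
      have e1 : (R x).map σ =
          LinearMap.toMatrixAlgEquiv' (Matrix.toLinAlgEquiv' ((R x).map σ)) :=
        (LinearMap.toMatrixAlgEquiv'.apply_symm_apply ((R x).map σ)).symm
      rw [e1]
      show LinearMap.toMatrixAlgEquiv' _ * LinearMap.toMatrixAlgEquiv' (ρ x) =
        LinearMap.toMatrixAlgEquiv' _ * LinearMap.toMatrixAlgEquiv' _
      rw [← map_mul, ← map_mul]
      congr 1
      exact e0.toIntertwiningMap.isIntertwining' x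
    let N : H → Matrix (Fin d) (Fin d) ℂ := fun g =>
      Y * (Mh g : Matrix (Fin d) (Fin d) ℂ).map σ * X
    have hNmul : ∀ g k, N (g * k) = N g * N k := fun g k => by
      simp only [N, map_mul, Units.val_mul]
      rw [show ((Mh g : Matrix (Fin d) (Fin d) ℂ) * Mh k).map σ =
        (Mh g : Matrix (Fin d) (Fin d) ℂ).map σ * (Mh k : Matrix (Fin d) (Fin d) ℂ).map σ from
        Matrix.map_mul (f := σ.toRingHom)]
      simp only [mul_assoc]
      rw [← mul_assoc X Y, hXY, one_mul]
    have hNint : ∀ g x, N g * R x = R (α g x) * N g := fun g x => by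
      have h1 : (Mh g : Matrix (Fin d) (Fin d) ℂ).map σ * (R x).map σ =
          (R (α g x)).map σ * (Mh g : Matrix (Fin d) (Fin d) ℂ).map σ := by
        rw [show (Mh g : Matrix (Fin d) (Fin d) ℂ).map σ * (R x).map σ =
          ((Mh g : Matrix (Fin d) (Fin d) ℂ) * R x).map σ from
          (Matrix.map_mul (f := σ.toRingHom)).symm, (hM g).2]
        exact Matrix.map_mul (f := σ.toRingHom)
      calc N g * R x = Y * ((Mh g : Matrix (Fin d) (Fin d) ℂ).map σ * (X * R x)) := by
            simp only [N, mul_assoc]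
        _ = Y * ((Mh g : Matrix (Fin d) (Fin d) ℂ).map σ * (R x).map σ * X) := by
            rw [hint, mul_assoc]
        _ = (Y * (R (α g x)).map σ) * ((Mh g : Matrix (Fin d) (Fin d) ℂ).map σ * X) := by
            rw [h1]; simp only [mul_assoc]
        _ = R (α g x) * N g := by
            have h4 : Y * (R (α g x)).map σ = R (α g x) * Y := by
              calc Y * (R (α g x)).map σ = Y * ((R (α g x)).map σ * X) * Y := by
                    rw [mul_assoc, mul_assoc, hXY, mul_one]
                _ = R (α g x) * Y := by rw [← hint, ← mul_assoc, hYX, one_mul]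
            rw [h4]; simp only [N, mul_assoc]
    have hNdet : ∀ g, (N g).det = 1 := fun g => by
      simp only [N]
      rw [Matrix.det_mul, Matrix.det_mul,
        show ((Mh g : Matrix (Fin d) (Fin d) ℂ).map σ).det = 1 by
          show (σ.toRingHom.mapMatrix (Mh g : Matrix (Fin d) (Fin d) ℂ)).det = 1
          rw [← RingHom.map_det]; simp [(hM g).1],
        mul_one, ← Matrix.det_mul, hYX, Matrix.det_one]
    have hμ : ∀ g, ∃ μ : ℂ, μ ^ d = 1 ∧ N g = μ • (Mh g : Matrix (Fin d) (Fin d) ℂ) := fun g => by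
      obtain ⟨μ, hμ⟩ := schur (((Mh g)⁻¹ : (Matrix (Fin d) (Fin d) ℂ)ˣ) * N g) fun x => by
        rw [mul_assoc, hNint, ← mul_assoc]
        rw [show (((Mh g)⁻¹ : (Matrix (Fin d) (Fin d) ℂ)ˣ) : Matrix (Fin d) (Fin d) ℂ) * R (α g x) =
          R x * (((Mh g)⁻¹ : (Matrix (Fin d) (Fin d) ℂ)ˣ) : Matrix (Fin d) (Fin d) ℂ) by
          rw [Units.inv_mul_eq_iff_eq_mul, ← mul_assoc, (hM g).2, mul_assoc, Units.mul_inv,
            mul_one], mul_assoc]
      have h1 : N g = μ • (Mh g : Matrix (Fin d) (Fin d) ℂ) := by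
        rw [Units.inv_mul_eq_iff_eq_mul] at hμ
        rw [hμ, mul_smul_comm, mul_one]
      refine ⟨μ, ?_, h1⟩
      have := hNdet g
      rwa [h1, Matrix.det_smul, (hM g).1, Fintype.card_fin, mul_one] at this
    choose μ hμd hμv using hμ
    have hMne : ∀ g : H, (Mh g : Matrix (Fin d) (Fin d) ℂ) ≠ 0 := fun g h0 => by
      have := (hM g).1
      rw [h0, Matrix.det_zero] at this
      exact zero_ne_one this
    have hμmul : ∀ g k, μ (g * k) = μ g * μ k := fun g k => by
      have := hNmul g k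
      rw [hμv, hμv, hμv, smul_mul_smul_comm, map_mul, Units.val_mul] at this
      exact smul_left_injective ℂ (by rw [← Units.val_mul, ← map_mul]; exact hMne _) this
    have hμ1 : μ 1 = 1 := by
      have := hμmul 1 1
      rw [mul_one] at this
      exact (mul_eq_left₀ fun h0 => by
        have := hμd 1
        rw [h0, zero_pow hdne] at this
        exact zero_ne_one this).1 this.symm
    let μh : H →* ℂ := { toFun := μ, map_one' := hμ1, map_mul' := hμmul }
    have h3 : μ h ^ Nat.card H = 1 := by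
      show μh h ^ Nat.card H = 1
      rw [← map_pow, pow_card_eq_one', map_one]
    have h4 : μ h = 1 := by
      have h5 : μ h ^ Nat.gcd d (Nat.card H) = 1 := pow_gcd_eq_one.2 ⟨hμd h, h3⟩
      rwa [hj, (Nat.Coprime.pow_left j (hp.coprime_iff_not_dvd.2 hcop)).gcd_eq_one, pow_one] at h5
    have h6 := congrArg Matrix.trace (hμv h)
    rw [h4, one_smul] at h6
    simp only [N] at h6
    rw [Matrix.trace_mul_cycle, hXY, one_mul] at h6
    simpa [hφdef, Matrix.trace, map_sum] using h6
  have hint : ∀ h, ∃ m : ℤ, φ h = m := fun h => by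
    refine exists_int_of_fixed (IsCharacter.isIntegral hφc h) fun σ => ?_
    obtain ⟨t0, ht0, hσ⟩ := exists_pow_of_ringEquiv (Nat.card_pos (α := H)) σ
    obtain ⟨t, ht1, ht2⟩ := Nat.chineseRemainder (hp.coprime_iff_not_dvd.2 hcop) 1 t0
    have htcop : t.Coprime (p * Nat.card H) := by
      refine Nat.Coprime.mul_right ?_ ?_
      · rw [Nat.Coprime, Nat.ModEq.gcd_eq ht1]; simp
      · rw [Nat.Coprime, Nat.ModEq.gcd_eq ht2]; exact ht0
    obtain ⟨σ', hσ'⟩ := exists_ringEquiv_pow (Nat.mul_pos hp.pos Nat.card_pos) htcop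
    have hmod : ∀ {z : ℂ} {n : ℕ} {i l : ℕ}, z ^ n = 1 → i ≡ l [MOD n] → z ^ i = z ^ l :=
      fun hz hil => by rw [pow_eq_pow_mod _ hz, hil, ← pow_eq_pow_mod _ hz]
    have h1 : σ' (c 1) = c 1 := by
      rw [hσ' _ (by rw [pow_mul, hc1p, one_pow]), hmod hc1p ht1, pow_one]
    have h2 : σ' (φ h) = σ (φ h) := by
      rw [IsCharacter.map_eq_pow_card hφc σ' (t := t0) (fun z hz => ?_) h,
        IsCharacter.map_eq_pow_card hφc σ hσ h]
      rw [hσ' z (by rw [mul_comm, pow_mul, hz, one_pow]), hmod hz ht2]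
    rw [← h2]
    exact hfix σ' h1 h
  choose m hm using hint
  have hm2 : ∀ h, (m h * m h : ℤ) = (Nat.card {x : U // h • x = x} : ℤ) := fun h => by
    have h1 := hsq h
    rw [IsCharacter.apply_inv hφc h, hm, map_intCast] at h1
    exact_mod_cast h1
  have hφ1 : φ 1 = d := by simp [hφdef]
  have hw := intCoeff_fixed (H := H) (U := U)
  have hmabs : ∀ h, ∃ i, i ≤ j ∧ (m h).natAbs = p ^ i ∧ (i = j → ∀ x : U, h • x = x) := by
    intro h
    obtain ⟨e, he⟩ := card_fixed_pow hU h
    have h1 : (m h).natAbs * (m h).natAbs = p ^ e := by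
      rw [← Int.natAbs_mul, hm2, Int.natAbs_natCast, he]
    obtain ⟨i, -, hi⟩ := (Nat.dvd_prime_pow hp).1 (Dvd.intro _ h1)
    have h2 : i + i = e := by
      rw [hi, ← pow_add] at h1
      exact Nat.pow_right_injective hp.two_le h1
    have h3 : Nat.card {x : U // h • x = x} ≤ Nat.card U := Finite.card_subtype_le _
    rw [he, ← hd2, hj, ← pow_add] at h3
    have h4 := (Nat.pow_le_pow_iff_right hp.one_lt).1 h3
    refine ⟨i, by omega, hi, fun hij x => ?_⟩
    by_contra hx
    have h5 := Finite.card_subtype_lt (p := fun y : U => h • y = y) hx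
    rw [he, ← hd2, hj, ← pow_add] at h5
    have := (Nat.pow_lt_pow_iff_right hp.one_lt).1 h5
    omega
  choose i hij hiv hitop using hmabs
  refine ⟨fun h => (((m h).sign * (p : ℤ) ^ (j - i h) : ℤ) : ℂ), ?_, fun h => isIntegral_intCast' _,
    fun h => ?_, ?_, fun M hM h hne => ?_, fun σ h => map_intCast σ _⟩
  · have hval : ∀ h, (Nat.card {x : U // h • x = x} : ℂ) *
        (((m h).sign * (p : ℤ) ^ (j - i h) : ℤ) : ℂ) = (d : ℂ) * φ h := fun h => by
      rw [hm, ← Int.cast_natCast (Nat.card _), ← hm2, ← Int.cast_natCast d, ← Int.cast_mul,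
        ← Int.cast_mul]
      congr 1
      have h1 : m h = (m h).sign * (p : ℤ) ^ i h := by
        conv_lhs => rw [← Int.sign_mul_natAbs (m h), hiv, Nat.cast_pow]
      have h2 : (m h).sign * (m h).sign = 1 := by
        rw [← Int.sign_mul, hm2, Int.sign_eq_one_iff_pos]
        have : Nonempty {x : U // h • x = x} := ⟨⟨0, smul_zero h⟩⟩
        exact_mod_cast Nat.card_pos
      have h3 : ((d : ℕ) : ℤ) = (p : ℤ) ^ (j - i h) * (p : ℤ) ^ i h := by
        rw [← pow_add, Nat.sub_add_cancel (hij h), hj, Nat.cast_pow]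
      rw [h3]
      calc m h * m h * ((m h).sign * (p : ℤ) ^ (j - i h))
          = (m h).sign * (p : ℤ) ^ i h * ((m h).sign * (p : ℤ) ^ (j - i h)) * m h := by
            nth_rewrite 1 [h1]; ring
        _ = ((m h).sign * (m h).sign) * ((p : ℤ) ^ (j - i h) * (p : ℤ) ^ i h) * m h := by ring
        _ = _ := by rw [h2, one_mul]
    refine IntCoeff.div_pow hp hcop hw (fun h => ?_) ((IntCoeff.of_isCharacter hφc).smul
      (c := (d : ℂ)) (isIntegral_natCast' d)) (fun x y => ?_) (fun h => isIntegral_intCast' _) hval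
    · obtain ⟨e, he⟩ := card_fixed_pow hU h
      exact ⟨e, by rw [he]⟩
    · have h1 : m (y * x * y⁻¹) = m x := by
        have := IsCharacter.isClassFunction hφc x y
        rw [hm, hm] at this
        exact_mod_cast this
      have h2 : i (y * x * y⁻¹) = i x :=
        Nat.pow_right_injective hp.two_le (show p ^ _ = p ^ _ by rw [← hiv, ← hiv, h1])
      simp only [h1, h2]
  · have h1 : ((m h).natAbs : ℝ) * (m h).natAbs = (Nat.card {x : U // h • x = x} : ℝ) := by
      rw [← Nat.cast_mul, ← Int.natAbs_mul, hm2, Int.natAbs_natCast]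
    rw [← h1, hiv, ← hd2, hj, Complex.norm_intCast]
    have h2 : |(((m h).sign * (p : ℤ) ^ (j - i h) : ℤ) : ℝ)| = (p : ℝ) ^ (j - i h) := by
      push_cast
      rw [abs_mul, abs_pow, Nat.abs_cast, ← Int.cast_abs,
        Int.abs_sign_of_ne_zero]
      · simp
      · intro h0
        have := hiv h
        rw [h0, Int.natAbs_zero] at this
        exact (pow_ne_zero _ hp.ne_zero) this.symm
    rw [h2]
    push_cast
    rw [sq, mul_mul_mul_comm, ← pow_add, Nat.sub_add_cancel (hij h)]
  · have h1 : m 1 = (d : ℤ) := by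
      have := hm 1
      rw [hφ1] at this
      exact_mod_cast this.symm
    have h2 : i 1 = j := Nat.pow_right_injective hp.two_le (by
      show p ^ i 1 = p ^ j
      rw [← hiv, h1, Int.natAbs_natCast, hj])
    simp only [h1, h2, Nat.sub_self, pow_zero, mul_one]
    rw [Int.sign_natCast_of_ne_zero hdne, Int.cast_one]
  · haveI : M.IsPrime := hM.2.1.isPrime
    rw [memLocalIdeal_intCast_iff hM]
    refine Dvd.dvd.mul_left (dvd_pow_self _ ?_) _
    intro h0
    exact hne (hitop h (by have := hij h; omega))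

end CfsgLib.KGV
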